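import Cfsg.Agent.Lib.BlocksNormal.CentralDefect
import Cfsg.Agent.Lib.BlocksNormal.NormalDefect
import Cfsg.Agent.Lib.FrobSection.Sections
import Mathlib.GroupTheory.FiniteAbelian.Duality

/-!
# Blocks with a central defect group

The members of a block with central defect group `D` are indexed by the linear characters of `D`.
-/

set_option autoImplicit false
set_option linter.style.haveILetI false
set_option linter.unusedSectionVars false

namespace Cfsg.Agent.BlockThree

open Cfsg Cfsg.Agent.Blocks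

variable {G : Type*} [Group G] [Fintype G] {p : ℕ} [hp : Fact p.Prime] {M : Ideal AlgInt}

/-- The linear characters of a finite abelian group are as many as its elements. -/
theorem card_hom_units {A : Type*} [Group A] [Finite A] (hab : ∀ a b : A, a * b = b * a) :
    Nat.card (A →* ℂˣ) = Nat.card A := by
  letI : CommGroup A := { (inferInstance : Group A) with mul_comm := hab }
  exact CommGroup.card_monoidHom_of_hasEnoughRootsOfUnity A ℂ

/-- Linear characters separate. -/
theorem eq_one_of_forall_hom {A : Type*} [Group A] [Finite A] (hab : ∀ a b : A, a * b = b * a)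
    {a : A} (h : ∀ l : A →* ℂˣ, l a = 1) : a = 1 := by
  letI : CommGroup A := { (inferInstance : Group A) with mul_comm := hab }
  by_contra ha
  obtain ⟨l, hl⟩ := CommGroup.exists_apply_ne_one_of_hasEnoughRootsOfUnity A ℂ ha
  exact hl (h l)

/-- `η` transforms on `D` by `l`. -/
def Scales {D : Subgroup G} (η : IrrCharacter G) (l : D →* ℂˣ) : Prop :=
  ∀ (a : D) (n : G), (η : G → ℂ) ((a : G) * n) = (l a : ℂ) * (η : G → ℂ) n

theorem Scales.unique {D : Subgroup G} {η : IrrCharacter G} {l l' : D →* ℂˣ} (h : Scales η l)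
    (h' : Scales η l') : l = l' :=
  MonoidHom.ext fun a => Units.ext (mul_right_cancel₀ (irr_one_ne_zero η) ((h a 1).symm.trans (h' a 1)))

theorem central_members (hM : IsPModular p M) {D : Subgroup G} (hDp : IsPGroup p D)
    (hDZ : D ≤ Subgroup.center G) {b : Set (IrrCharacter G)} (hb : IsPBlock M b)
    (hD : IsDefectGroup p M b D) :
    (∀ η ∈ b, ∃ l : D →* ℂˣ, Scales η l) ∧
      (∀ η ∈ b, ∀ η' ∈ b, ∀ l : D →* ℂˣ, Scales η l → Scales η' l → η = η') ∧
      ∀ l : D →* ℂˣ, ∃ η ∈ b, Scales η l := by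
  classical
  haveI : D.Normal := ⟨fun n hn g => by
    rw [Subgroup.mem_center_iff.mp (hDZ hn) g, mul_inv_cancel_right]; exact hn⟩
  haveI := Fintype.ofFinite D
  have htop : Subgroup.centralizer (D : Set G) = ⊤ := eq_top_iff.mpr fun g _ =>
    Subgroup.mem_centralizer_iff.mpr fun d hd => (Subgroup.mem_center_iff.mp (hDZ hd) g).symm
  have hG : D ⊔ Subgroup.centralizer (D : Set G) = ⊤ := by rw [htop, sup_top_eq]
  have hab : ∀ a c : D, a * c = c * a := fun a c =>
    Subtype.ext (Subgroup.mem_center_iff.mp (hDZ c.2) (a : G))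
  obtain ⟨θ, hθb, hθ⟩ := BlocksNormal.exists_mem_trivOn hM hb D hDp
  have hdeg1 : ∀ η ∈ b, (η : G → ℂ) 1 = (θ : G → ℂ) 1 := fun η hη => by
    obtain ⟨ξ, hξ⟩ := BlocksNormal.degree_eq_mul hM hDp hG hb hD hθb hθ hη
    rw [hξ, Char.apply_one_eq_one_of_comm hab ξ, mul_one]
  have hvdeg := (BlocksNormal.abelian_iff_degree_eq hM hDp hG hb hD).mp hab
  have hscale : ∀ η ∈ b, ∃ l : D →* ℂˣ, Scales η l := by
    intro η _
    have hsc : ∀ a : D, ∃ c : ℂ, c ≠ 0 ∧ ∀ n : G, (η : G → ℂ) ((a : G) * n) = c * (η : G → ℂ) n := by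
      intro a
      obtain ⟨c, hc1, hc⟩ := SecondMain.exists_central_scalar (hDZ a.2) η
      refine ⟨c, fun h0 => ?_, hc⟩
      have := hc ((a : G)⁻¹)
      rw [mul_inv_cancel, h0, zero_mul] at this
      exact irr_one_ne_zero η this
    choose c hc0 hc using hsc
    refine ⟨MonoidHom.mk' (fun a => Units.mk0 (c a) (hc0 a)) fun a a' => Units.ext ?_, hc⟩
    simp only [Units.val_mul, Units.val_mk0]
    refine mul_right_cancel₀ (irr_one_ne_zero η) ?_
    rw [mul_assoc, ← hc (a * a') 1, ← hc a' 1, ← hc a]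
    simp only [Subgroup.coe_mul, mul_assoc]
  have hinj : ∀ η ∈ b, ∀ η' ∈ b, ∀ l : D →* ℂˣ, Scales η l → Scales η' l → η = η' := by
    intro η hη η' hη' l hl hl'
    refine Subtype.ext (funext fun g => ?_)
    obtain ⟨x, hx⟩ := FrobSection.exists_isPPart p g
    by_cases hxD : x ∈ D
    · obtain ⟨y, hxy, -, -, hy⟩ := hx
      have h1 := BlocksNormal.apply_regular hM hDp hG hb hD hθb hθ hη hy
      have h2 := BlocksNormal.apply_regular hM hDp hG hb hD hθb hθ hη' hy
      rw [hdeg1 η hη] at h1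
      rw [hdeg1 η' hη'] at h2
      rw [← hxy, hl ⟨x, hxD⟩ y, hl' ⟨x, hxD⟩ y,
        mul_right_cancel₀ (irr_one_ne_zero θ) (h1.trans h2.symm)]
    · rw [BlocksNormal.eq_zero_of_notMem hp.out hDp hDZ η (hvdeg η hη) hx hxD,
        BlocksNormal.eq_zero_of_notMem hp.out hDp hDZ η' (hvdeg η' hη') hx hxD]
  refine ⟨hscale, hinj, ?_⟩
  choose L hL using hscale
  let F : b → (D →* ℂˣ) := fun η => L η.1 η.2
  have hFinj : Function.Injective F := fun η η' h =>
    Subtype.ext (hinj _ η.2 _ η'.2 (F η) (hL _ η.2) (h ▸ hL _ η'.2))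
  have hcard : Nat.card b = Nat.card (D →* ℂˣ) := by
    rw [card_hom_units hab, BlocksNormal.card_block_eq_card_classes hM hDp hG hb hD,
      Char.card_conjClasses_of_comm hab]
  haveI : Finite (D →* ℂˣ) := Nat.finite_of_card_ne_zero (by rw [card_hom_units hab]; exact Nat.card_pos.ne')
  intro l
  obtain ⟨η, rfl⟩ := ((Nat.bijective_iff_injective_and_card F).mpr ⟨hFinj, hcard⟩).2 l
  exact ⟨η.1, η.2, hL _ η.2⟩

end Cfsg.Agent.BlockThree
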