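import Cfsg.Agent.Lib.FullyRamified.Basic
import Cfsg.Agent.Lib.Char.Integral
import Cfsg.Agent.Lib.Char.Induced
import Cfsg.Agent.Lib.CharApp.Clifford
import Cfsg.Agent.Lib.BrauerPairs.Basic
import Cfsg.Agent.Lib.BlocksNormal.Cover
import Cfsg.Agent.S0887

/-!
# Few characters over an invariant character of a normal subgroup

For `θ` invariant in `G` and `y` whose image in `G ⧸ N` has a cyclic centraliser of order `m`:
* `exists_combination`: a combination of the characters over `θ` lives on the class of the coset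
  of `y`, vanishes at `1` and has norm `1 / m`;
* `not_cyclic_of_one`: with one character over `θ` there is no such `y`;
* `isConj_of_two`: with at most two, all such `y` are conjugate modulo `N`;
* `index_eq_sq_of_one`: then `|G : N|` is a square;
* `arith_of_two`: with exactly two, their multiplicities `e₁, e₂` have `e₁² + e₂² = |G : N|`, a
  common `m e_j² / |G : N|` integral.
-/

set_option autoImplicit false
set_option linter.style.haveILetI false
set_option linter.unusedSectionVars false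

open scoped ComplexConjugate

namespace Cfsg.Agent.BlockThree

open Cfsg

variable {G : Type*} [Group G] [Fintype G] (N : Subgroup G) [hN : N.Normal] [Fintype N]

/-- The characters over `θ`. -/
def Over (θ : IrrCharacter N) : Set (IrrCharacter G) :=
  {χ | classInner (fun n : N => (χ : G → ℂ) n) (θ : N → ℂ) ≠ 0}

theorem mem_over {θ : IrrCharacter N} {χ : IrrCharacter G} :
    χ ∈ Over N θ ↔ classInner (fun n : N => (χ : G → ℂ) n) (θ : N → ℂ) ≠ 0 := Iff.rfl

omit hN in
/-- A constituent is seen on a subgroup. -/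
theorem restrict_constituent {π φ : G → ℂ} (hπ : IsCharacter G π) (hφ : IsIrrCharacter G φ)
    (h : classInner π φ ≠ 0) {θ : N → ℂ} (hθ : IsIrrCharacter N θ)
    (h' : classInner (fun n : N => φ n) θ ≠ 0) : classInner (fun n : N => π n) θ ≠ 0 := by
  classical
  haveI := Fintype.ofFinite (IrrCharacter G)
  obtain ⟨c, hc, hin⟩ := Char.IsCharacter.decompose hπ
  choose k hk using fun ψ : IrrCharacter G => Char.IsCharacter.classInner_nat
    (Char.IsCharacter.restrict (Char.IsIrrCharacter.isCharacter ψ.2) N)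
    (Char.IsIrrCharacter.isCharacter hθ)
  have hsum : (fun n : N => π n) =
      ∑ ψ : IrrCharacter G, (c ψ : ℂ) • fun n : N => (ψ : G → ℂ) n := by
    funext n
    have := congrFun hc (n : G)
    simp only [Finset.sum_apply, Pi.smul_apply] at this ⊢
    exact this
  rw [hsum, Char.classInner_sum_left]
  simp only [Char.classInner_smul_left, hk]
  rw [show (∑ ψ : IrrCharacter G, (c ψ : ℂ) * (k ψ : ℂ)) = ((∑ ψ, c ψ * k ψ : ℕ) : ℂ) by push_cast; rfl,
    Nat.cast_ne_zero]
  intro h0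
  rcases mul_eq_zero.mp (Finset.sum_eq_zero_iff.mp h0 ⟨φ, hφ⟩ (Finset.mem_univ _)) with h1 | h1
  · exact h (by
      have := hin ⟨φ, hφ⟩
      rw [h1, Nat.cast_zero] at this
      exact this)
  · exact h' (by rw [show φ = ((⟨φ, hφ⟩ : IrrCharacter G) : G → ℂ) from rfl, hk, h1, Nat.cast_zero])

variable (θ : IrrCharacter N)
  (hinv : ∀ (g : G) (n : N), (θ : N → ℂ) ⟨g * n * g⁻¹, hN.conj_mem n n.2 g⟩ = (θ : N → ℂ) n)

include hinv in
open scoped Classical in
theorem exists_combination [Fintype (IrrCharacter G)] {y : G} (hy : y ∉ N)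
    (hcyc : IsCyclic (Subgroup.centralizer ({(y : G ⧸ N)} : Set (G ⧸ N)))) :
    ∃ (f : G → ℂ) (d : IrrCharacter G → ℂ),
      (∀ χ, IsIntegral ℤ (d χ * conj (d χ))) ∧ (∀ χ, χ ∉ Over N θ → d χ = 0) ∧
      f = ∑ χ : IrrCharacter G,
        (conj (d χ) / (Nat.card (Subgroup.centralizer ({(y : G ⧸ N)} : Set (G ⧸ N))) : ℂ)) •
          (χ : G → ℂ) ∧
      f 1 = 0 ∧ f ≠ 0 ∧
      ∑ χ : IrrCharacter G, d χ * conj (d χ) =
        (Nat.card (Subgroup.centralizer ({(y : G ⧸ N)} : Set (G ⧸ N))) : ℂ) ∧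
      ∀ g : G, f g ≠ 0 → IsConj (g : G ⧸ N) (y : G ⧸ N) := by
  set Z := Subgroup.centralizer ({(y : G ⧸ N)} : Set (G ⧸ N)) with hZ
  set R := Z.comap (QuotientGroup.mk' N) with hR
  have hmemR : ∀ x : G, x ∈ R ↔ (x : G ⧸ N) * y = y * x := fun x => by
    rw [hR, hZ, Subgroup.mem_comap, Subgroup.mem_centralizer_singleton_iff]
    rfl
  have hNR : N ≤ R := fun n hn => (hmemR n).mpr (by
    rw [(QuotientGroup.eq_one_iff n).mpr hn, one_mul, mul_one])
  haveI := Fintype.ofFinite R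
  set N' := N.subgroupOf R
  haveI := Fintype.ofFinite N'
  let e : N' ≃* N := Subgroup.subgroupOfEquivOfLe hNR
  let π : R →* Z := ((QuotientGroup.mk' N).comp R.subtype).codRestrict Z fun x => x.2
  have hπs : Function.Surjective π := fun z => by
    obtain ⟨x, hx⟩ := QuotientGroup.mk_surjective (z : G ⧸ N)
    refine ⟨⟨x, ?_⟩, Subtype.ext hx⟩
    rw [hR, Subgroup.mem_comap]
    show (x : G ⧸ N) ∈ Z
    rw [hx]
    exact z.2
  have hker : π.ker = N' := by
    ext x
    rw [MonoidHom.mem_ker, Subgroup.mem_subgroupOf, ← QuotientGroup.eq_one_iff, Subtype.ext_iff]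
    rfl
  let E : R ⧸ N' ≃* Z := (QuotientGroup.quotientMulEquivOfEq hker.symm).trans
    (QuotientGroup.quotientKerEquivOfSurjective π hπs)
  haveI := hcyc
  have hcyc' : IsCyclic (R ⧸ N') := isCyclic_of_surjective E.symm E.symm.surjective
  have hcomm : ∀ a b : R ⧸ N', a * b = b * a :=
    letI := hcyc'
    letI := IsCyclic.commGroup (α := R ⧸ N')
    fun a b => mul_comm a b
  have hm : N'.index = Nat.card Z := Nat.card_congr E.toEquiv
  set m := Nat.card Z
  have hm0 : (m : ℂ) ≠ 0 := Nat.cast_ne_zero.mpr Nat.card_pos.ne'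
  let θ' : IrrCharacter N' := BrauerPairs.pullIrr e θ
  obtain ⟨ψ, hψ, hψres⟩ := FullyRamified.exists_extension_of_cyclic hcyc' θ'.2
    fun g z => hinv (g : G) (e z)
  have hψN : IsIrrCharacter N' (fun z : N' => ψ z) := by
    rw [funext hψres]; exact θ'.2
  let y' : R := ⟨y, (hmemR y).mpr rfl⟩
  let q : R ⧸ N' := (y' : R ⧸ N')
  have hq : ∀ r : R, (r : R ⧸ N') = q ↔ ((r : G) : G ⧸ N) = y := fun r => by
    simp only [q, QuotientGroup.eq, N', Subgroup.mem_subgroupOf]
    rfl
  let g0 : R → ℂ := fun r => if (r : R ⧸ N') = q then ψ r else 0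
  let f : G → ℂ := indFun R g0
  have hg0cl : IsClassFunction R g0 := fun r s => by
    have h1 : ((s * r * s⁻¹ : R) : R ⧸ N') = (r : R ⧸ N') := by
      rw [QuotientGroup.mk_mul, QuotientGroup.mk_mul, hcomm (s : R ⧸ N'), mul_assoc,
        ← QuotientGroup.mk_mul, mul_inv_cancel, QuotientGroup.mk_one, mul_one]
    simp only [g0, h1, Char.IsIrrCharacter.isClassFunction hψ r s]
  have hext : ∀ g x : G, extendByZero R g0 (x⁻¹ * g * x) ≠ 0 →
      (x : G ⧸ N)⁻¹ * g * x = y := by
    intro g x h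
    by_cases hx : x⁻¹ * g * x ∈ R
    · rw [Char.extendByZero_mem _ _ hx] at h
      simp only [g0] at h
      by_cases hh : ((⟨_, hx⟩ : R) : R ⧸ N') = q
      · have := (hq _).mp hh
        simpa using this
      · rw [if_neg hh] at h
        exact absurd rfl h
    · rw [Char.extendByZero_not_mem _ _ hx] at h
      exact absurd rfl h
  have hsupp : ∀ g : G, f g ≠ 0 → IsConj (g : G ⧸ N) (y : G ⧸ N) := by
    intro g hg
    obtain ⟨x, -, hx⟩ := Finset.exists_ne_zero_of_sum_ne_zero (right_ne_zero_of_mul hg)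
    exact isConj_iff.mpr ⟨(x : G ⧸ N)⁻¹, by rw [inv_inv]; exact hext g x hx⟩
  -- on the coset the induced function is the extension
  have hfq : ∀ r : R, (r : R ⧸ N') = q → f r = g0 r := by
    intro r hr
    show indFun R g0 (r : G) = g0 r
    rw [indFun, show ∑ x : G, extendByZero R g0 (x⁻¹ * r * x) =
      ∑ x : G, if x ∈ R then g0 r else 0 from Finset.sum_congr rfl fun x _ => ?_, Finset.sum_ite,
      Finset.sum_const_zero, add_zero, Finset.sum_const, nsmul_eq_mul, ← mul_assoc]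
    · rw [show (Finset.univ.filter (· ∈ R)).card = Nat.card R by
        rw [Nat.card_eq_fintype_card, Fintype.card_subtype], inv_mul_cancel₀
        (Nat.cast_ne_zero.mpr Nat.card_pos.ne'), one_mul]
    · by_cases hx : x ∈ R
      · rw [if_pos hx, show x⁻¹ * (r : G) * x = ((⟨x, hx⟩⁻¹ * r * ⟨x, hx⟩ : R) : G) from rfl,
          Char.extendByZero_coe]
        have := hg0cl r (⟨x, hx⟩⁻¹ : R)
        rwa [inv_inv] at this
      · rw [if_neg hx]
        by_contra hne
        have h := hext _ x hne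
        rw [(hq r).mp hr, mul_assoc, inv_mul_eq_iff_eq_mul] at h
        exact hx ((hmemR x).mpr h.symm)
  let d : IrrCharacter G → ℂ := fun χ =>
    (Nat.card N' : ℂ)⁻¹ * ∑ r ∈ Finset.univ.filter (fun r : R => (r : R ⧸ N') = q),
      conj (ψ r) * (χ : G → ℂ) r
  haveI := Fintype.ofFinite (IrrCharacter (R ⧸ N'))
  have hRc : (Nat.card R : ℂ) = (m : ℂ) * (Nat.card N' : ℂ) := by
    rw [← hm, ← Nat.cast_mul, N'.index_mul_card]
  have hdω : ∀ χ : IrrCharacter G, ∃ n : IrrCharacter (R ⧸ N') → ℕ,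
      d χ = ∑ ω : IrrCharacter (R ⧸ N'), conj ((ω : R ⧸ N' → ℂ) q) * (n ω : ℂ) ∧
      (χ ∉ Over N θ → ∀ ω, n ω = 0) := by
    intro χ
    let π' : IrrCharacter (R ⧸ N') → R → ℂ := fun ω r => (χ : G → ℂ) r * (ω : R ⧸ N' → ℂ) r
    have hπ' : ∀ ω, IsCharacter R (π' ω) := fun ω => Char.IsCharacter.mul
      (Char.IsCharacter.restrict (Char.IsIrrCharacter.isCharacter χ.2) R)
      (Char.IsCharacter.comp_hom (Char.IsIrrCharacter.isCharacter ω.2) (QuotientGroup.mk' N'))
    choose n hn using fun ω =>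
      Char.IsCharacter.classInner_nat (hπ' ω) (Char.IsIrrCharacter.isCharacter hψ)
    refine ⟨n, ?_, fun hχ ω => ?_⟩
    · have h := FullyRamified.coset_expansion hcomm (fun r : R => conj (ψ r) * (χ : G → ℂ) r) q
      have h2 := congrArg (fun F : R → ℂ => ∑ r, F r) h
      simp only [Pi.smul_apply, Finset.sum_apply, smul_eq_mul, ← Finset.mul_sum, hm] at h2
      rw [← Finset.sum_filter, Finset.sum_comm] at h2
      have h3 : (m : ℂ) * ((Nat.card N' : ℂ) * d χ) =
          (Nat.card R : ℂ) * ∑ ω : IrrCharacter (R ⧸ N'), conj ((ω : R ⧸ N' → ℂ) q) * (n ω : ℂ) := by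
        show (m : ℂ) * ((Nat.card N' : ℂ) * ((Nat.card N' : ℂ)⁻¹ * _)) = _
        rw [← mul_assoc (Nat.card N' : ℂ), mul_inv_cancel₀ (Nat.cast_ne_zero.mpr Nat.card_pos.ne'),
          one_mul, h2, Finset.mul_sum]
        refine Finset.sum_congr rfl fun ω _ => ?_
        rw [← hn, mul_left_comm, Char.card_mul_classInner, Finset.mul_sum]
        exact Finset.sum_congr rfl fun r _ => by simp only [π']; ring
      rw [← mul_assoc, ← hRc] at h3
      exact mul_left_cancel₀ (Nat.cast_ne_zero.mpr Nat.card_pos.ne') h3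
    · by_contra h0
      refine hχ ?_
      have h1 := restrict_constituent N' (hπ' ω) hψ (by rw [hn]; exact_mod_cast h0) θ'.2
        (by rw [funext hψres, Char.classInner_irr_self θ'.2]; exact one_ne_zero)
      intro hov
      refine h1 ?_
      have hω1 : ∀ z : N', (ω : R ⧸ N' → ℂ) ((z : R) : R ⧸ N') = 1 := fun z => by
        rw [(QuotientGroup.eq_one_iff (z : R)).mpr z.2, Char.apply_one_eq_one_of_comm hcomm ω]
      rw [← hov, classInner, classInner, Nat.card_congr e.toEquiv]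
      congr 1
      refine Fintype.sum_equiv e.toEquiv _ _ fun z => ?_
      simp only [π', hω1, mul_one]
      rfl
  choose n hdn hn0 using hdω
  have hint : ∀ χ, IsIntegral ℤ (d χ) := fun χ => by
    rw [hdn]
    exact IsIntegral.sum _ fun ω _ =>
      (Char.IsCharacter.isIntegral (Char.IsCharacter.conj (Char.IsIrrCharacter.isCharacter ω.2)) q).mul
        (isIntegral_natCast _)
  have hcoef : ∀ χ : IrrCharacter G, classInner f (χ : G → ℂ) = conj (d χ) / (m : ℂ) := by
    intro χ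
    rw [show classInner f (χ : G → ℂ) = classInner g0 (fun r : R => (χ : G → ℂ) r) from
      Char.frobenius_reciprocity R g0 (Char.IsIrrCharacter.isClassFunction χ.2)]
    simp only [classInner, d, g0, map_mul, map_sum, map_inv₀, Complex.conj_natCast, Complex.conj_conj,
      ite_mul, zero_mul]
    rw [← Finset.sum_filter, hRc, mul_inv, div_eq_inv_mul, mul_assoc]
  have hfcl : IsClassFunction G f := Char.indFun_isClassFunction R g0
  have hnorm : classInner f f = (m : ℂ)⁻¹ := by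
    rw [show classInner f f = classInner g0 (fun r : R => f r) from
      Char.frobenius_reciprocity R g0 hfcl, classInner]
    have : ∑ r : R, g0 r * conj (f r) =
        ∑ r ∈ Finset.univ.filter (fun r : R => (r : R ⧸ N') = q), ψ r * conj (ψ r) := by
      rw [Finset.sum_filter]
      refine Finset.sum_congr rfl fun r _ => ?_
      by_cases hr : (r : R ⧸ N') = q
      · rw [hfq r hr]; simp only [g0, if_pos hr]
      · simp only [g0, if_neg hr, zero_mul]
    rw [this, FullyRamified.coset_sum_eq_card hcomm hψ hψN q, hRc, mul_inv, mul_assoc,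
      inv_mul_cancel₀ (Nat.cast_ne_zero.mpr Nat.card_pos.ne'), mul_one]
  refine ⟨f, d, fun χ => (hint χ).mul ?_, fun χ hχ => ?_, ?_, ?_, ?_, ?_, hsupp⟩
  · exact (hint χ).map (starRingEnd ℂ).toIntAlgHom
  · simp [hdn, hn0 χ hχ]
  · exact (Char.classFunction_eq_sum hfcl).trans (Finset.sum_congr rfl fun χ _ => by rw [hcoef])
  · by_contra h
    obtain ⟨c, hc⟩ := isConj_iff.mp (hsupp 1 h)
    rw [QuotientGroup.mk_one, mul_one, mul_inv_cancel] at hc
    exact hy ((QuotientGroup.eq_one_iff y).mp hc.symm)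
  · intro h
    rw [h, Char.classInner_zero_left] at hnorm
    exact inv_ne_zero hm0 hnorm.symm
  · have h := Char.classInner_eq_sum hfcl f
    rw [hnorm] at h
    simp only [hcoef, map_div₀, Complex.conj_conj, Complex.conj_natCast] at h
    have h2 : (m : ℂ) ^ 2 * (m : ℂ)⁻¹ = ∑ χ : IrrCharacter G, d χ * conj (d χ) := by
      rw [h, Finset.mul_sum]
      exact Finset.sum_congr rfl fun χ _ => by field_simp
    rw [← h2]
    field_simp

include hinv in
/-- One character over `θ`: no cyclic centralisers. -/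
theorem not_cyclic_of_one {χ₀ : IrrCharacter G} (hone : ∀ χ ∈ Over N θ, χ = χ₀) {y : G}
    (hy : y ∉ N) : ¬ IsCyclic (Subgroup.centralizer ({(y : G ⧸ N)} : Set (G ⧸ N))) := by
  classical
  intro hcyc
  haveI := Fintype.ofFinite (IrrCharacter G)
  obtain ⟨f, d, -, hd0, hf, hf1, hfne, -, -⟩ := exists_combination N θ hinv hy hcyc
  rw [Finset.sum_eq_single χ₀ (fun χ _ hne => by
    rw [hd0 χ fun h => hne (hone χ h), map_zero, zero_div, zero_smul])
    (fun h => absurd (Finset.mem_univ _) h)] at hf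
  refine hfne ?_
  rw [hf] at hf1 ⊢
  rw [Pi.smul_apply, smul_eq_mul] at hf1
  rw [(mul_eq_zero.mp hf1).resolve_right (Char.IsIrrCharacter.apply_one_ne_zero χ₀.2), zero_smul]

include hinv in
/-- One character over `θ`: the index is a square. -/
theorem index_eq_sq_of_one {χ₀ : IrrCharacter G} (hone : ∀ χ ∈ Over N θ, χ = χ₀) :
    ∃ e : ℕ, N.index = e ^ 2 := by
  classical
  haveI := Fintype.ofFinite (IrrCharacter G)
  have hinv' : ∀ x : G, CliffordChar.conjFun N x (θ : N → ℂ) = (θ : N → ℂ) := fun x => funext fun n => by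
    rw [CliffordChar.conjFun_apply, ← hinv x⁻¹ n]
    exact congrArg _ (Subtype.ext (by simp))
  obtain ⟨χ, hχ⟩ := BlocksNormal.exists_over N θ
  obtain rfl : χ = χ₀ := hone χ hχ
  obtain ⟨e, he⟩ := Char.IsCharacter.classInner_nat
    (Char.IsCharacter.restrict (Char.IsIrrCharacter.isCharacter χ.2) N)
    (Char.IsIrrCharacter.isCharacter θ.2)
  have hdeg : (χ : G → ℂ) 1 = e * (θ : N → ℂ) 1 := by
    have := congrFun (CharApp.restrict_invariant N χ.2 θ.2 hχ hinv') 1
    rw [he] at this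
    simpa using this
  refine ⟨e, Nat.cast_injective (R := ℂ) ?_⟩
  apply mul_right_cancel₀ (Char.IsIrrCharacter.apply_one_ne_zero θ.2)
  rw [← Char.indFun_one_apply N (θ : N → ℂ),
    Char.classFunction_eq_sum (Char.indFun_isClassFunction N (θ : N → ℂ))]
  have hco : ∀ ψ : IrrCharacter G, classInner (indFun N (θ : N → ℂ)) (ψ : G → ℂ) =
      conj (classInner (fun n : N => (ψ : G → ℂ) n) (θ : N → ℂ)) := fun ψ => by
    rw [Char.classInner_conj_symm]
    exact Char.frobenius_reciprocity N _ (Char.IsIrrCharacter.isClassFunction ψ.2)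
  simp only [Finset.sum_apply, Pi.smul_apply, smul_eq_mul, hco]
  rw [Finset.sum_eq_single χ (fun ψ _ hne => by
      rw [not_not.mp (fun h => hne (hone ψ h)), map_zero, zero_mul])
    (fun h => absurd (Finset.mem_univ _) h), he, hdeg, Complex.conj_natCast]
  push_cast
  ring

include hinv in
/-- Two characters over `θ`: the elements with cyclic centraliser are conjugate. -/
theorem isConj_of_two {χ₁ χ₂ : IrrCharacter G} (hne : χ₁ ≠ χ₂)
    (htwo : ∀ χ ∈ Over N θ, χ = χ₁ ∨ χ = χ₂) {y z : G} (hy : y ∉ N) (hz : z ∉ N)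
    (hcy : IsCyclic (Subgroup.centralizer ({(y : G ⧸ N)} : Set (G ⧸ N))))
    (hcz : IsCyclic (Subgroup.centralizer ({(z : G ⧸ N)} : Set (G ⧸ N)))) :
    IsConj (y : G ⧸ N) (z : G ⧸ N) := by
  classical
  haveI := Fintype.ofFinite (IrrCharacter G)
  by_contra hcon
  obtain ⟨f, d, -, hd0, hf, hf1, hfne, -, hfs⟩ := exists_combination N θ hinv hy hcy
  obtain ⟨f', d', -, hd0', hf', hf1', hfne', -, hfs'⟩ := exists_combination N θ hinv hz hcz
  have hred : ∀ (a : IrrCharacter G → ℂ), (∀ χ, χ ∉ Over N θ → a χ = 0) →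
      ∑ χ : IrrCharacter G, a χ • (χ : G → ℂ) = a χ₁ • (χ₁ : G → ℂ) + a χ₂ • (χ₂ : G → ℂ) := by
    intro a ha
    rw [← Finset.sum_pair (f := fun χ : IrrCharacter G => a χ • (χ : G → ℂ)) hne]
    refine (Finset.sum_subset (Finset.subset_univ _) fun χ _ hχ => ?_).symm
    rw [ha χ fun h => hχ (by simpa using htwo χ h), zero_smul]
  rw [hred _ (fun χ h => by rw [hd0 χ h, map_zero, zero_div])] at hf
  rw [hred _ (fun χ h => by rw [hd0' χ h, map_zero, zero_div])] at hf'
  set a₁ := conj (d χ₁) / _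
  set a₂ := conj (d χ₂) / _
  set b₁ := conj (d' χ₁) / _
  set b₂ := conj (d' χ₂) / _
  have h2ne := Char.IsIrrCharacter.apply_one_ne_zero χ₂.2
  have e1 := hf ▸ hf1
  have e2 := hf' ▸ hf1'
  simp only [Pi.add_apply, Pi.smul_apply, smul_eq_mul] at e1 e2
  have hdet : b₁ * a₂ - a₁ * b₂ = 0 := (mul_eq_zero.mp (show
    (b₁ * a₂ - a₁ * b₂) * (χ₂ : G → ℂ) 1 = 0 by linear_combination b₁ * e1 - a₁ * e2)).resolve_right h2ne
  have ha₁ : a₁ ≠ 0 := by
    intro h0
    rw [h0, zero_mul, zero_add] at e1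
    refine hfne ?_
    rw [hf, h0, (mul_eq_zero.mp e1).resolve_right h2ne, zero_smul, zero_smul, add_zero]
  obtain ⟨g, hg⟩ := Function.ne_iff.mp hfne'
  have hfg : f g = 0 := by
    by_contra h
    exact hcon ((hfs g h).symm.trans (hfs' g hg))
  have hlin : b₁ * f g = a₁ * f' g := by
    rw [hf, hf']
    simp only [Pi.add_apply, Pi.smul_apply, smul_eq_mul]
    linear_combination hdet * (χ₂ : G → ℂ) g
  rw [hfg, mul_zero] at hlin
  exact mul_ne_zero ha₁ hg hlin.symm

include hinv in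
/-- The degrees of two characters over `θ`. -/
theorem arith_of_two {χ₁ χ₂ : IrrCharacter G} (hne : χ₁ ≠ χ₂) (h₁ : χ₁ ∈ Over N θ)
    (h₂ : χ₂ ∈ Over N θ) (htwo : ∀ χ ∈ Over N θ, χ = χ₁ ∨ χ = χ₂) :
    ∃ e₁ e₂ : ℕ, 0 < e₁ ∧ 0 < e₂ ∧ e₁ ∣ N.index ∧ e₂ ∣ N.index ∧ e₁ ^ 2 + e₂ ^ 2 = N.index ∧
      ∀ y : G, y ∉ N → IsCyclic (Subgroup.centralizer ({(y : G ⧸ N)} : Set (G ⧸ N))) →
        N.index ∣ Nat.card (Subgroup.centralizer ({(y : G ⧸ N)} : Set (G ⧸ N))) * e₁ ^ 2 ∧
        N.index ∣ Nat.card (Subgroup.centralizer ({(y : G ⧸ N)} : Set (G ⧸ N))) * e₂ ^ 2 := by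
  classical
  haveI := Fintype.ofFinite (IrrCharacter G)
  have hinv' : ∀ x : G, CliffordChar.conjFun N x (θ : N → ℂ) = (θ : N → ℂ) := fun x => funext fun n => by
    rw [CliffordChar.conjFun_apply, ← hinv x⁻¹ n]
    exact congrArg _ (Subtype.ext (by simp))
  have hmult : ∀ χ ∈ Over N θ, ∃ e : ℕ, 0 < e ∧ e ∣ N.index ∧
      classInner (fun n : N => (χ : G → ℂ) n) (θ : N → ℂ) = e ∧
      (χ : G → ℂ) 1 = e * (θ : N → ℂ) 1 := by
    intro χ hχ
    obtain ⟨e, he⟩ := Char.IsCharacter.classInner_nat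
      (Char.IsCharacter.restrict (Char.IsIrrCharacter.isCharacter χ.2) N)
      (Char.IsIrrCharacter.isCharacter θ.2)
    have hdeg : (χ : G → ℂ) 1 = e * (θ : N → ℂ) 1 := by
      have := congrFun (CharApp.restrict_invariant N χ.2 θ.2 hχ hinv') 1
      rw [he] at this
      simpa using this
    have hpos : 0 < e := Nat.pos_of_ne_zero fun h0 => hχ (by rw [he, h0, Nat.cast_zero])
    refine ⟨e, hpos, ?_, he, hdeg⟩
    obtain ⟨-, hdvd⟩ := S0887.result N (χ : G → ℂ) χ.2 (θ : N → ℂ) θ.2 hχ _ _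
      (Blocks.charDegree_cast χ).symm (Blocks.charDegree_cast θ).symm
    have : charDegree (χ : G → ℂ) = e * charDegree (θ : N → ℂ) := by
      apply Nat.cast_injective (R := ℂ)
      push_cast
      rw [Blocks.charDegree_cast, Blocks.charDegree_cast, hdeg]
    rwa [this, Nat.mul_div_cancel _ (Blocks.charDegree_pos θ)] at hdvd
  obtain ⟨e₁, he₁, hd₁, hi₁, hdeg₁⟩ := hmult χ₁ h₁
  obtain ⟨e₂, he₂, hd₂, hi₂, hdeg₂⟩ := hmult χ₂ h₂
  have hθ1 := Char.IsIrrCharacter.apply_one_ne_zero θ.2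
  have hpair : ∀ (a : IrrCharacter G → ℂ), (∀ χ, χ ∉ Over N θ → a χ = 0) →
      ∑ χ : IrrCharacter G, a χ = a χ₁ + a χ₂ := by
    intro a ha
    rw [← Finset.sum_pair (f := a) hne]
    exact (Finset.sum_subset (Finset.subset_univ _) fun χ _ hχ =>
      ha χ fun h => hχ (by simpa using htwo χ h)).symm
  have hidx : e₁ ^ 2 + e₂ ^ 2 = N.index := by
    apply Nat.cast_injective (R := ℂ)
    apply mul_right_cancel₀ hθ1
    rw [← Char.indFun_one_apply N (θ : N → ℂ),
      Char.classFunction_eq_sum (Char.indFun_isClassFunction N (θ : N → ℂ))]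
    have hco : ∀ χ : IrrCharacter G, classInner (indFun N (θ : N → ℂ)) (χ : G → ℂ) =
        conj (classInner (fun n : N => (χ : G → ℂ) n) (θ : N → ℂ)) := fun χ => by
      rw [Char.classInner_conj_symm]
      exact Char.frobenius_reciprocity N _ (Char.IsIrrCharacter.isClassFunction χ.2)
    simp only [Finset.sum_apply, Pi.smul_apply, smul_eq_mul, hco]
    rw [hpair _ fun χ hχ => by rw [not_not.mp hχ, map_zero, zero_mul], hi₁, hi₂, hdeg₁, hdeg₂,
      Complex.conj_natCast, Complex.conj_natCast]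
    push_cast
    ring
  refine ⟨e₁, e₂, he₁, he₂, hd₁, hd₂, hidx, fun y hy hcyc => ?_⟩
  obtain ⟨f, d, hint, hd0, hf, hf1, -, hnorm, -⟩ := exists_combination N θ hinv hy hcyc
  set m := Nat.card (Subgroup.centralizer ({(y : G ⧸ N)} : Set (G ⧸ N)))
  rw [hf] at hf1
  simp only [Finset.sum_apply, Pi.smul_apply, smul_eq_mul] at hf1
  rw [hpair _ fun χ hχ => by rw [hd0 χ hχ, map_zero, zero_div, zero_mul], hdeg₁, hdeg₂] at hf1
  rw [hpair _ fun χ hχ => by rw [hd0 χ hχ, zero_mul]] at hnorm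
  have hm0 : (m : ℂ) ≠ 0 := Nat.cast_ne_zero.mpr Nat.card_pos.ne'
  have hrel : conj (d χ₁) * e₁ + conj (d χ₂) * e₂ = 0 := by
    field_simp at hf1
    rcases mul_eq_zero.mp (show (conj (d χ₁) * e₁ + conj (d χ₂) * e₂) * (θ : N → ℂ) 1 = 0 by
      linear_combination hf1) with h | h
    · exact h
    · exact absurd h hθ1
  have hrel' : d χ₁ * e₁ + d χ₂ * e₂ = 0 := by
    have := congrArg (starRingEnd ℂ) hrel
    simpa using this
  have hE : (N.index : ℂ) = (e₁ : ℂ) ^ 2 + (e₂ : ℂ) ^ 2 := by rw [← hidx]; push_cast; ring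
  have hX : (N.index : ℂ) * (d χ₂ * conj (d χ₂)) = ((m * e₁ ^ 2 : ℕ) : ℂ) := by
    rw [hE]; push_cast
    linear_combination (e₁ : ℂ) ^ 2 * hnorm - (d χ₁ * e₁) * hrel + (conj (d χ₂) * e₂) * hrel'
  have hY : (N.index : ℂ) * (d χ₁ * conj (d χ₁)) = ((m * e₂ ^ 2 : ℕ) : ℂ) := by
    rw [hE]; push_cast
    linear_combination (e₂ : ℂ) ^ 2 * hnorm + (d χ₁ * e₁) * hrel - (conj (d χ₂) * e₂) * hrel'
  have hidx0 : N.index ≠ 0 := Subgroup.index_ne_zero_of_finite
  constructor <;> refine Char.nat_dvd_of_isIntegral_div hidx0 ?_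
  · rw [← hX, mul_div_cancel_left₀ _ (Nat.cast_ne_zero.mpr hidx0)]
    exact hint χ₂
  · rw [← hY, mul_div_cancel_left₀ _ (Nat.cast_ne_zero.mpr hidx0)]
    exact hint χ₁

end Cfsg.Agent.BlockThree
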