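import Cfsg.Agent.Lib.BlockThree.Rotation
import Cfsg.Agent.Lib.Zsigmondy.Large
import Cfsg.Agent.Lib.OrbitPower.Classes
import Cfsg.Agent.Lib.FPF.Basic
import Mathlib.NumberTheory.SumTwoSquares

/-!
# Transitive coprime groups with two characters over a fixed one

`Config` collects what the count of characters gives for a group `E` acting faithfully on the
abelian `p`-group `V` and transitively on its nontrivial elements.

* `Config.card_eq_three`: then `|V| = 3`.
-/

set_option autoImplicit false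
set_option linter.style.haveILetI false
set_option linter.unusedSectionVars false

namespace Cfsg.Agent.BlockThree

open Subgroup

/-- Two characters over the trivial part, one over each nontrivial one. -/
structure Config {E V : Type*} [Group E] [CommGroup V] (φ : E →* MulAut V) (p : ℕ) : Prop where
  inj : Function.Injective φ
  pgroup : IsPGroup p V
  copr : ¬ p ∣ Nat.card E
  trans : ∀ u v : V, u ≠ 1 → v ≠ 1 → ∃ e : E, φ e u = v
  conj : ∀ x y : E, x ≠ 1 → y ≠ 1 → IsCyclic (centralizer ({x} : Set E)) →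
    IsCyclic (centralizer ({y} : Set E)) → IsConj x y
  stab_sq : ∀ v : V, v ≠ 1 → ∃ s, Nat.card (FPF.stabOf φ v) = s ^ 2
  stab_cyc : ∀ v : V, v ≠ 1 → IsCyclic (FPF.stabOf φ v) → FPF.stabOf φ v = ⊥
  arith : ∃ e₁ e₂ : ℕ, 0 < e₁ ∧ 0 < e₂ ∧ e₁ ∣ Nat.card E ∧ e₂ ∣ Nat.card E ∧
    e₁ ^ 2 + e₂ ^ 2 = Nat.card E ∧ ∀ y : E, y ≠ 1 → IsCyclic (centralizer ({y} : Set E)) →
      Nat.card E ∣ Nat.card (centralizer ({y} : Set E)) * e₁ ^ 2 ∧
      Nat.card E ∣ Nat.card (centralizer ({y} : Set E)) * e₂ ^ 2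

namespace Config

variable {E V : Type*} [Group E] [Finite E] [CommGroup V] [Finite V] [Nontrivial V]
  {φ : E →* MulAut V} {p : ℕ} [hp : Fact p.Prime] (h : Config φ p)

include h

theorem pow_prime (v : V) : v ^ p = 1 := by
  by_cases hv : v = 1
  · rw [hv, one_pow]
  have hdvd : p ∣ Nat.card V := by
    obtain ⟨n, hn⟩ := h.pgroup.exists_card_eq
    have : 1 < Nat.card V := Finite.one_lt_card
    rw [hn] at this ⊢
    exact dvd_pow_self p fun h0 => by rw [h0, pow_zero] at this; omega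
  obtain ⟨u, hu⟩ := exists_prime_orderOf_dvd_card' p hdvd
  obtain ⟨e, he⟩ := h.trans u v (fun h1 => hp.out.one_lt.ne (by rw [← hu, h1, orderOf_one])) hv
  rw [← he, ← map_pow, ← hu, pow_orderOf_eq_one, map_one]

theorem card_eq_mul {v : V} (hv : v ≠ 1) :
    Nat.card E = (Nat.card V - 1) * Nat.card (FPF.stabOf φ v) := by
  classical
  haveI := Fintype.ofFinite E
  haveI := Fintype.ofFinite V
  letI : MulAction E V := MulAction.compHom V φ
  have hsm : ∀ (e : E) (u : V), e • u = φ e u := fun _ _ => rfl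
  have hstab : MulAction.stabilizer E v = FPF.stabOf φ v := by
    ext e
    rw [MulAction.mem_stabilizer_iff, hsm]
    rfl
  have horb : MulAction.orbit E v = ({1}ᶜ : Set V) := by
    ext u
    rw [MulAction.mem_orbit_iff, Set.mem_compl_singleton_iff]
    constructor
    · rintro ⟨e, rfl⟩ he
      rw [hsm] at he
      exact hv ((φ e).injective (he.trans (map_one _).symm))
    · exact fun hu => h.trans v u hv hu
  have h1 := MulAction.card_orbit_mul_card_stabilizer_eq_card_group E v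
  rw [← Nat.card_eq_fintype_card, ← Nat.card_eq_fintype_card, ← Nat.card_eq_fintype_card, hstab,
    horb] at h1
  rw [← h1, Nat.card_coe_set_eq, Set.ncard_compl, Set.ncard_singleton]

theorem odd_prime : p ≠ 2 := by
  rintro rfl
  obtain ⟨e₁, e₂, -, -, hd₁, hd₂, hsum, -⟩ := h.arith
  have hodd := Nat.odd_iff.mpr (Nat.two_dvd_ne_zero.mp h.copr)
  have h1 : Odd (e₁ ^ 2) := (hodd.of_dvd_nat hd₁).pow
  have h2 : Odd (e₂ ^ 2) := (hodd.of_dvd_nat hd₂).pow
  exact (Nat.not_odd_iff_even.mpr (h1.add_odd h2)) (hsum ▸ hodd)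

theorem mod_four {y : E} (hy : y ≠ 1) (hc : IsCyclic (centralizer ({y} : Set E))) {r : ℕ}
    (hr : r.Prime) (hcard : Nat.card (centralizer ({y} : Set E)) = r) : r % 4 ≠ 3 := by
  obtain ⟨e₁, e₂, he₁, he₂, -, -, hsum, hall⟩ := h.arith
  obtain ⟨h1, h2⟩ := hall y hy hc
  rw [hcard, ← hsum] at h1 h2
  obtain ⟨g, u, w, hg, huw, rfl, rfl⟩ :=
    Nat.exists_coprime' (Nat.gcd_pos_of_pos_left e₂ he₁)
  have hg2 : 0 < g ^ 2 := pow_pos hg 2
  have hd1 : u ^ 2 + w ^ 2 ∣ r * u ^ 2 := by
    refine Nat.dvd_of_mul_dvd_mul_right hg2 ?_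
    convert h1 using 1 <;> ring
  have hd2 : u ^ 2 + w ^ 2 ∣ r * w ^ 2 := by
    refine Nat.dvd_of_mul_dvd_mul_right hg2 ?_
    convert h2 using 1 <;> ring
  have hdr : u ^ 2 + w ^ 2 ∣ r := by
    have := Nat.dvd_gcd hd1 hd2
    rwa [Nat.gcd_mul_left, (huw.pow 2 2).gcd_eq_one, mul_one] at this
  have hne : u ^ 2 + w ^ 2 ≠ 1 := by
    intro h0
    rcases Nat.eq_zero_or_pos u with rfl | hu
    · simp at he₁
    rcases Nat.eq_zero_or_pos w with rfl | hw
    · simp at he₂
    nlinarith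
  rcases (Nat.dvd_prime hr).mp hdr with h0 | h0
  · exact absurd h0 hne
  rw [← h0, Nat.add_mod, Nat.pow_mod u, Nat.pow_mod w]
  have := Nat.mod_lt u (show 4 > 0 by norm_num)
  have := Nat.mod_lt w (show 4 > 0 by norm_num)
  interval_cases u % 4 <;> interval_cases w % 4 <;> decide

variable {n : ℕ}

theorem prime_facts (hn : Nat.card V = p ^ n) {r : ℕ} (hr : r.Prime) (hrd : r ∣ p ^ n - 1)
    (hprim : ∀ i, 1 ≤ i → i < n → ¬ r ∣ p ^ i - 1) :
    ∃ x : E, orderOf x = r ∧ IsCyclic (centralizer ({x} : Set E)) ∧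
      centralizer ({x} : Set E) = zpowers x ∧ (∀ y : E, orderOf y = r → IsConj x y) ∧
      ¬ r ^ 2 ∣ Nat.card E ∧ r - 1 ≤ n ∧ r % 4 ≠ 3 := by
  classical
  haveI := Fact.mk hr
  obtain ⟨v, hv⟩ := exists_ne (1 : V)
  have hrE : r ∣ Nat.card E := by rw [h.card_eq_mul hv, hn]; exact hrd.mul_right _
  obtain ⟨x, hx⟩ := exists_prime_orderOf_dvd_card' r hrE
  have hirr : ∀ y : E, orderOf y = r → IsIrred φ y := fun y hy =>
    irreducible_of_primitive φ h.inj hn hr hrd hprim hy
  have hcyc : ∀ y : E, y ≠ 1 → r ∣ orderOf y → IsCyclic (centralizer ({y} : Set E)) := by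
    intro y _ hd
    obtain ⟨c, hc⟩ := hd
    have hc0 : c ≠ 0 := fun h0 => (orderOf_pos y).ne' (by rw [hc, h0, mul_zero])
    refine cyclic_centralizer φ h.inj (IsIrred.of_pow φ (k := c) (hirr _ ?_))
    rw [orderOf_pow' y hc0, hc, Nat.gcd_eq_right (Dvd.intro_left r rfl),
      Nat.mul_div_cancel _ (Nat.pos_of_ne_zero hc0)]
  have hne1 : ∀ y : E, r ∣ orderOf y → y ≠ 1 := fun y hd h1 => by
    rw [h1, orderOf_one, Nat.dvd_one] at hd
    exact hr.one_lt.ne' hd
  have hconj : ∀ y : E, r ∣ orderOf y → IsConj x y := fun y hd =>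
    h.conj x y (hne1 x hx.symm.dvd) (hne1 y hd) (hcyc x (hne1 x hx.symm.dvd) hx.symm.dvd)
      (hcyc y (hne1 y hd) hd)
  have hC : centralizer ({x} : Set E) = zpowers x := by
    haveI := hcyc x (hne1 x hx.symm.dvd) hx.symm.dvd
    obtain ⟨⟨c, hcC⟩, hc⟩ := IsCyclic.exists_generator (α := centralizer ({x} : Set E))
    have hxC : x ∈ centralizer ({x} : Set E) := mem_centralizer_singleton_iff.mpr rfl
    obtain ⟨i, hi⟩ := mem_zpowers_iff.mp (hc ⟨x, hxC⟩)
    have hxc : c ^ i = x := congrArg Subtype.val hi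
    have hd : r ∣ orderOf c := by
      rw [← hx, orderOf_dvd_iff_pow_eq_one, ← hxc, ← zpow_natCast, ← zpow_mul, mul_comm, zpow_mul,
        zpow_natCast, pow_orderOf_eq_one, one_zpow]
    have hoc : orderOf c = r := by
      obtain ⟨t, ht⟩ := isConj_iff.mp (hconj c hd)
      rw [← ht, show orderOf (t * x * t⁻¹) = orderOf x from
        orderOf_injective (MulAut.conj t).toMonoidHom (MulAut.conj t).injective _, hx]
    refine (eq_of_le_of_card_ge (zpowers_le.mpr hxC) ?_).symm
    rw [Nat.card_zpowers, hx, ← hoc, ← Subgroup.orderOf_mk c hcC,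
      orderOf_eq_card_of_forall_mem_zpowers hc]
  have hcardC : Nat.card (centralizer ({x} : Set E)) = r := by rw [hC, Nat.card_zpowers, hx]
  refine ⟨x, hx, hcyc x (hne1 x hx.symm.dvd) hx.symm.dvd, hC, fun y hy => hconj y hy.symm.dvd,
    fun hr2 => ?_, ?_,
    h.mod_four (hne1 x hx.symm.dvd) (hcyc x (hne1 x hx.symm.dvd) hx.symm.dvd) hr hcardC⟩
  · obtain ⟨P, hP⟩ := Sylow.exists_subgroup_card_pow_prime r hr2
    obtain ⟨⟨z, hzP⟩, hz⟩ := exists_prime_orderOf_dvd_card' (G := P) r (by rw [hP]; exact dvd_pow_self r two_ne_zero)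
    rw [Subgroup.orderOf_mk] at hz
    obtain ⟨t, ht⟩ := isConj_iff.mp (hconj z hz.symm.dvd)
    have hPc : P.map (MulAut.conj t⁻¹).toMonoidHom ≤ centralizer ({x} : Set E) := by
      rintro _ ⟨a, ha, rfl⟩
      rw [mem_centralizer_singleton_iff]
      have hcm := (IsPGroup.isMulCommutative_of_card_eq_prime_sq hP).is_comm.comm ⟨a, ha⟩ ⟨z, hzP⟩
      have hcm' : a * z = z * a := congrArg Subtype.val hcm
      show t⁻¹ * a * t⁻¹⁻¹ * x = x * (t⁻¹ * a * t⁻¹⁻¹)
      rw [show x = t⁻¹ * z * t by rw [← ht]; group]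
      calc t⁻¹ * a * t⁻¹⁻¹ * (t⁻¹ * z * t) = t⁻¹ * (a * z) * t := by group
        _ = _ := by rw [hcm']; group
    have := Subgroup.card_le_of_le hPc
    rw [Nat.card_congr (P.equivMapOfInjective _ (MulAut.conj t⁻¹).injective).symm.toEquiv, hP,
      hcardC] at this
    nlinarith [hr.two_le]
  · refine le_trans (le_of_eq ?_) (card_conj_powers_le φ h.inj h.pow_prime hn (hirr x hx)
      ((Finset.Ico 1 r).image fun j => x ^ j) ?_)
    · rw [Finset.card_image_of_injOn, Nat.card_Ico]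
      intro a ha b hb hab
      simp only [Finset.coe_Ico, Set.mem_Ico] at ha hb
      exact pow_injOn_Iio_orderOf (by simp [hx]; omega) (by simp [hx]; omega) hab
    · intro y hy
      obtain ⟨j, hj, rfl⟩ := Finset.mem_image.mp hy
      rw [Finset.mem_Ico] at hj
      refine ⟨⟨j, rfl⟩, hconj _ ?_⟩
      rw [Nat.Coprime.orderOf_pow]
      · exact hx.symm.dvd
      · rw [hx]
        exact (hr.coprime_iff_not_dvd).mpr fun hd => by have := Nat.le_of_dvd (by omega) hd; omega

theorem case_one (hn : Nat.card V = p) : p = 3 := by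
  haveI : IsCyclic V := isCyclic_of_prime_card hn
  haveI : IsCyclic (ZMod (Nat.card V))ˣ := by rw [hn]; infer_instance
  haveI : IsCyclic (MulAut V) := isCyclic_of_surjective
    (IsCyclic.mulAutMulEquiv V).symm.toMonoidHom (IsCyclic.mulAutMulEquiv V).symm.surjective
  haveI : IsCyclic E := isCyclic_of_injective φ h.inj
  have hall : ∀ y : E, IsCyclic (centralizer ({y} : Set E)) := fun y =>
    Subgroup.isCyclic _
  letI := IsCyclic.commGroup (α := E)
  have hE : Nat.card E ≤ 2 := by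
    by_contra hcon
    obtain ⟨a, ha⟩ := IsCyclic.exists_generator (α := E)
    have hord := orderOf_eq_card_of_forall_mem_zpowers ha
    have ha1 : a ≠ 1 := fun h1 => by rw [h1, orderOf_one] at hord; omega
    have ha2 : a ^ 2 ≠ 1 := fun h1 => by
      have := orderOf_le_of_pow_eq_one (by norm_num) h1; omega
    have := isConj_iff_eq.mp (h.conj a (a ^ 2) ha1 ha2 (hall _) (hall _))
    rw [sq] at this
    exact ha1 (mul_eq_left.mp this.symm)
  obtain ⟨v, hv⟩ := exists_ne (1 : V)
  have h1 := h.card_eq_mul hv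
  rw [hn] at h1
  have h2 : 0 < Nat.card (FPF.stabOf φ v) := Nat.card_pos
  have h3 := hp.out.two_le
  have h4 := h.odd_prime
  have : p - 1 ≤ Nat.card E := h1 ▸ Nat.le_mul_of_pos_right _ h2
  omega

theorem stab_trivial_two (hn : Nat.card V = p ^ 2) {v : V} (hv : v ≠ 1) :
    FPF.stabOf φ v = ⊥ := by
  classical
  set S := FPF.stabOf φ v
  set L := zpowers v
  have hLv : ∀ s : S, ∀ l ∈ L, φ s l = l := by
    intro s l hl
    obtain ⟨i, rfl⟩ := mem_zpowers_iff.mp hl
    rw [map_zpow, show φ s v = v from s.2]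
  have hinv : FPF.Inv (φ.comp S.subtype) L := fun s l hl => by
    rw [MonoidHom.comp_apply, Subgroup.coe_subtype, hLv s l hl]
    exact hl
  have hordv : orderOf v = p := orderOf_eq_prime (h.pow_prime v) hv
  have hq : Nat.card (V ⧸ L) = p := by
    have := L.card_eq_card_quotient_mul_card_subgroup
    rw [hn, Nat.card_zpowers, hordv, sq] at this
    exact (Nat.eq_of_mul_eq_mul_right hp.out.pos this).symm
  haveI : IsCyclic (V ⧸ L) := isCyclic_of_prime_card hq
  haveI : IsCyclic (ZMod (Nat.card (V ⧸ L)))ˣ := by rw [hq]; infer_instance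
  haveI : IsCyclic (MulAut (V ⧸ L)) := isCyclic_of_surjective
    (IsCyclic.mulAutMulEquiv (V ⧸ L)).symm.toMonoidHom (IsCyclic.mulAutMulEquiv (V ⧸ L)).symm.surjective
  refine h.stab_cyc v hv (isCyclic_of_injective (FPF.quotAct (φ.comp S.subtype) L hinv) ?_)
  refine (injective_iff_map_eq_one _).mpr fun s hs => ?_
  have hu : ∀ u : V, ∃ l ∈ L, φ (s : E) u = u * l := fun u => by
    have h1 := DFunLike.congr_fun hs (u : V ⧸ L)
    rw [MulAut.one_apply, FPF.quotAct_mk, eq_comm, QuotientGroup.eq] at h1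
    exact ⟨_, h1, by simp⟩
  have hpow : φ ((s : E) ^ p) = 1 := MulEquiv.ext fun u => by
    obtain ⟨l, hl, hsl⟩ := hu u
    have hit : ∀ k : ℕ, φ ((s : E) ^ k) u = u * l ^ k := by
      intro k
      induction k with
      | zero => simp
      | succ k ih =>
        rw [pow_succ', map_mul, MulAut.mul_apply, ih, map_mul, map_pow, hLv s l hl, hsl, mul_assoc,
          ← pow_succ']
    rw [hit, h.pow_prime, mul_one, MulAut.one_apply]
  rw [← map_one φ] at hpow
  have h2 : orderOf (s : E) ∣ p := orderOf_dvd_of_pow_eq_one (h.inj hpow)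
  refine Subtype.ext (orderOf_eq_one_iff.mp (((Nat.dvd_prime hp.out).mp h2).resolve_right fun h3 => ?_))
  exact h.copr (h3 ▸ orderOf_dvd_natCard _)

theorem case_two (hn : Nat.card V = p ^ 2) : False := by
  classical
  have hp2 := h.odd_prime
  have hp3 : 3 ≤ p := by have := hp.out.two_le; omega
  obtain ⟨v, hv⟩ := exists_ne (1 : V)
  by_cases hodd : ∃ r, r.Prime ∧ r ∣ p + 1 ∧ r ≠ 2
  · obtain ⟨r, hr, hrd, hr2⟩ := hodd
    have hrd2 : r ∣ p ^ 2 - 1 := by
      rw [show p ^ 2 - 1 = (p + 1) * (p - 1) from Nat.sq_sub_sq p 1]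
      exact hrd.mul_right _
    obtain ⟨x, -, -, -, -, -, hle, hmod⟩ := h.prime_facts hn hr hrd2 (fun i h1 h2 hd => by
      obtain rfl : i = 1 := by omega
      rw [pow_one] at hd
      have h2' : r ∣ 2 := by
        have := Nat.dvd_sub hrd hd
        rwa [show p + 1 - (p - 1) = 2 by omega] at this
      exact hr2 ((Nat.prime_dvd_prime_iff_eq hr Nat.prime_two).mp h2'))
    have := hr.two_le
    exact hmod (by rw [show r = 3 by omega])
  push Not at hodd
  obtain ⟨s, hs⟩ : ∃ s, p + 1 = 2 ^ s :=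
    ⟨_, Nat.eq_prime_pow_of_unique_prime_dvd (by omega) fun {d} hd hdd => hodd d hd hdd⟩
  have hcardE : Nat.card E = p ^ 2 - 1 := by
    rw [h.card_eq_mul hv, h.stab_trivial_two hn hv, Subgroup.card_bot, mul_one, hn]
  obtain ⟨e₁, e₂, -, -, -, -, hsum, -⟩ := h.arith
  have hs2 : s = 2 := by
    by_contra hs2
    have hs3 : 3 ≤ s := by
      by_contra hlt
      interval_cases s <;> simp at hs <;> omega
    obtain ⟨t, rfl⟩ : ∃ t, s = t + 3 := ⟨s - 3, by omega⟩
    set m := 2 ^ (t + 2) - 1 with hm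
    have h4 : 4 ≤ 2 ^ (t + 2) := by
      calc 4 = 2 ^ 2 := rfl
        _ ≤ _ := Nat.pow_le_pow_right (by norm_num) (by omega)
    have hpm : p - 1 = 2 * m := by
      have : 2 ^ (t + 3) = 2 * 2 ^ (t + 2) := by ring
      omega
    have hfac : Nat.card E = 2 ^ (t + 4) * m := by
      rw [hcardE, show p ^ 2 - 1 = (p + 1) * (p - 1) from Nat.sq_sub_sq p 1, hs, hpm]
      ring
    have hm4 : m % 4 = 3 := by
      have : 4 ∣ 2 ^ (t + 2) := ⟨2 ^ t, by ring⟩
      omega
    have hall := Nat.eq_sq_add_sq_iff.mp ⟨e₁, e₂, hsum.symm⟩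
    obtain ⟨a, b, hab⟩ : ∃ a b, m = a ^ 2 + b ^ 2 := Nat.eq_sq_add_sq_iff.mpr fun q hq hq4 => by
      obtain ⟨hqp, hqd, hm0⟩ := Nat.mem_primeFactors.mp hq
      haveI := Fact.mk hqp
      have h2 := hall q (Nat.mem_primeFactors.mpr
        ⟨hqp, hfac ▸ hqd.mul_left _, Nat.card_pos.ne'⟩) hq4
      rwa [hfac, padicValNat.mul (by positivity) hm0, padicValNat.pow, padicValNat.eq_zero_of_not_dvd,
        mul_zero, zero_add] at h2
      intro h2'
      have := (Nat.prime_dvd_prime_iff_eq hqp Nat.prime_two).mp h2'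
      omega
    rw [hab, Nat.add_mod, Nat.pow_mod a, Nat.pow_mod b] at hm4
    have := Nat.mod_lt a (show 4 > 0 by norm_num)
    have := Nat.mod_lt b (show 4 > 0 by norm_num)
    rcases (show a % 4 = 0 ∨ a % 4 = 1 ∨ a % 4 = 2 ∨ a % 4 = 3 by omega) with ha | ha | ha | ha <;>
      rcases (show b % 4 = 0 ∨ b % 4 = 1 ∨ b % 4 = 2 ∨ b % 4 = 3 by omega) with hb | hb | hb | hb <;>
      rw [ha, hb] at hm4 <;> norm_num at hm4
  subst hs2
  obtain rfl : p = 3 := by omega
  have h8 : Nat.card E = 8 := by rw [hcardE]; norm_num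
  have hfree : ∀ e : E, ∀ u : V, u ≠ 1 → φ e u = u → e = 1 := fun e u hu he => by
    have : e ∈ FPF.stabOf φ u := he
    rwa [h.stab_trivial_two hn hu, Subgroup.mem_bot] at this
  -- involutions invert
  have hinv : ∀ z : E, z ^ 2 = 1 → z ≠ 1 → ∀ u : V, φ z u = u⁻¹ := fun z hz hz1 u => by
    have hfix : φ z (u * φ z u) = u * φ z u := by
      rw [map_mul, ← MulAut.mul_apply, ← map_mul, ← sq, hz, map_one, MulAut.one_apply, mul_comm]
    by_contra hne
    exact hz1 (hfree z _ (fun h1 => hne (eq_inv_of_mul_eq_one_right h1)) hfix)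
  have hirr : ∀ y : E, y ^ 2 ≠ 1 → IsIrred φ y := by
    intro y hy S hS
    obtain ⟨i, hi, hSi⟩ := (Nat.dvd_prime_pow Nat.prime_three).mp (hn ▸ S.card_subgroup_dvd_card)
    interval_cases i
    · exact Or.inl (Subgroup.eq_bot_of_card_eq _ (by rw [hSi, pow_zero]))
    · exfalso
      rw [pow_one] at hSi
      haveI : Nontrivial S := Finite.one_lt_card_iff_nontrivial.mp (by omega)
      obtain ⟨⟨u, huS⟩, hu⟩ := exists_ne (1 : S)
      have hu1 : u ≠ 1 := fun h1 => hu (Subtype.ext h1)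
      have hord : orderOf u = 3 := orderOf_eq_prime (h.pow_prime u) hu1
      have hSu : S = zpowers u := (eq_of_le_of_card_ge (zpowers_le.mpr huS)
        (by rw [Nat.card_zpowers, hord, hSi])).symm
      refine hy (hfree _ u hu1 ?_)
      rw [sq, map_mul, MulAut.mul_apply]
      have hmem := hS u huS
      rw [hSu] at hmem
      obtain ⟨j, hjr, hju⟩ := Finset.mem_image.mp
        ((IsOfFinOrder.mem_zpowers_iff_mem_range_orderOf (isOfFinOrder_of_finite u)).mp hmem)
      have hj := Finset.mem_range.mp hjr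
      rw [hord] at hj
      rw [← hju, map_pow, ← hju, ← pow_mul]
      interval_cases j
      · exfalso
        rw [pow_zero] at hju
        exact hu1 ((φ y).injective (hju.symm.trans (map_one _).symm))
      · simp
      · rw [show 2 * 2 = 3 + 1 from rfl, pow_succ, h.pow_prime, one_mul]
    · exact Or.inr (S.card_eq_iff_eq_top.mp (by rw [hSi, hn]))
  haveI := Fintype.ofFinite E
  have hbig : ∃ y : E, y ^ 2 ≠ 1 := by
    by_contra hno
    push Not at hno
    have hle : ∀ z : E, z ≠ 1 → ∀ z' : E, z' ≠ 1 → z = z' := fun z hz z' hz' => h.inj (MulEquiv.ext fun u => by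
      rw [hinv z (hno z) hz, hinv z' (hno z') hz'])
    have : Nat.card E ≤ 2 := by
      by_contra hlt
      rw [Nat.card_eq_fintype_card] at hlt
      obtain ⟨a, b, c, hab, hac, hbc⟩ := Fintype.two_lt_card_iff.mp (by omega : 2 < Fintype.card E)
      rcases eq_or_ne a 1 with rfl | ha
      · exact hbc (hle b hab.symm c hac.symm)
      rcases eq_or_ne b 1 with rfl | hb
      · exact hac (hle a hab c hbc.symm)
      exact hab (hle a ha b hb)
    omega
  obtain ⟨y, hy⟩ := hbig
  have hy1 : y ≠ 1 := fun h1 => hy (by rw [h1, one_pow])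
  -- all elements with nontrivial square are conjugate to `y`
  have hsub : (Finset.univ.filter fun z : E => z ^ 2 ≠ 1) ⊆ (conjugatesOf y).toFinset := by
    intro z hz
    rw [Finset.mem_filter] at hz
    rw [Set.mem_toFinset]
    exact h.conj y z hy1 (fun h1 => hz.2 (by rw [h1, one_pow])) (cyclic_centralizer φ h.inj (hirr y hy))
      (cyclic_centralizer φ h.inj (hirr z hz.2))
  have hsq : (Finset.univ.filter fun z : E => z ^ 2 = 1).card ≤ 2 := by
    by_contra hlt
    obtain ⟨a, b, c, ha, hb, hc, hab, hac, hbc⟩ := Finset.two_lt_card_iff.mp (by omega :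
      2 < (Finset.univ.filter fun z : E => z ^ 2 = 1).card)
    simp only [Finset.mem_filter, Finset.mem_univ, true_and] at ha hb hc
    have hle : ∀ z z' : E, z ^ 2 = 1 → z' ^ 2 = 1 → z ≠ 1 → z' ≠ 1 → z = z' :=
      fun z z' hz hz' h1 h1' => h.inj (MulEquiv.ext fun u => by rw [hinv z hz h1, hinv z' hz' h1'])
    rcases eq_or_ne a 1 with rfl | ha1
    · exact hbc (hle b c hb hc hab.symm hac.symm)
    rcases eq_or_ne b 1 with rfl | hb1
    · exact hac (hle a c ha hc hab hbc.symm)
    exact hab (hle a b ha hb ha1 hb1)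
  have hsplit := Finset.card_filter_add_card_filter_not (s := (Finset.univ : Finset E))
    (fun z : E => z ^ 2 = 1)
  rw [Finset.card_univ, ← Nat.card_eq_fintype_card, h8] at hsplit
  have hcl := Finset.card_le_card hsub
  rw [Set.toFinset_card, ← Nat.card_eq_fintype_card, QBaer.card_conjugatesOf] at hcl
  have h4 : 4 ≤ Nat.card (centralizer ({y} : Set E)) := by
    have hyC : y ∈ centralizer ({y} : Set E) := mem_centralizer_singleton_iff.mpr rfl
    refine le_trans ?_ (Nat.le_of_dvd Nat.card_pos (orderOf_dvd_natCard (⟨y, hyC⟩ : centralizer ({y} : Set E))))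
    rw [Subgroup.orderOf_mk]
    obtain ⟨k, hk, hkd⟩ := (Nat.dvd_prime_pow Nat.prime_two).mp
      (show orderOf y ∣ 2 ^ 3 by have := orderOf_dvd_natCard y; rw [h8] at this; exact this)
    interval_cases k
    · exact absurd (orderOf_eq_one_iff.mp hkd) hy1
    · exact absurd (orderOf_dvd_iff_pow_eq_one.mp hkd.dvd) hy
    · omega
    · omega
  have := (centralizer ({y} : Set E)).card_mul_index
  rw [h8] at this
  nlinarith

end Config

end Cfsg.Agent.BlockThree
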