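import Cfsg.Agent.Lib.BlockThree.Endgame
import Mathlib.LinearAlgebra.Matrix.GeneralLinearGroup.Card

/-!
# Transitive coprime groups with two characters over a fixed one, larger dimensions

* `Config.not_four_three`: the exceptional case of order `81`;
* `Config.card_eq_three`: the group `V` has order three.
-/

set_option autoImplicit false
set_option linter.style.haveILetI false
set_option linter.unusedSectionVars false

namespace Cfsg.Agent.BlockThree

open Subgroup

/-- The automorphisms of a group of exponent `p` and order `p ^ n`. -/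
theorem card_mulAut_exponent {V : Type*} [CommGroup V] [Finite V] {p n : ℕ} [hp : Fact p.Prime]
    (hexp : ∀ v : V, v ^ p = 1) (hcard : Nat.card V = p ^ n) :
    Nat.card (MulAut V) = Nat.card (GL (Fin n) (ZMod p)) := by
  have hz : ∀ v : Additive V, p • v = 0 := fun v => hexp v.toMul
  letI : Module (ZMod p) (Additive V) := @AddCommGroup.zmodModule p (Additive V) _ hz
  haveI : Module.Finite (ZMod p) (Additive V) := Module.Finite.of_finite (R := ZMod p)
  have hfr : Module.finrank (ZMod p) (Additive V) = n := by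
    have h : Nat.card (Additive V) = Nat.card (ZMod p) ^ Module.finrank (ZMod p) (Additive V) :=
      Module.natCard_eq_pow_finrank
    rw [Nat.card_congr Additive.toMul, hcard, Nat.card_zmod] at h
    exact (Nat.pow_right_injective hp.out.two_le h).symm
  refine Nat.card_congr ?_
  refine Equiv.trans ?_ (Units.mapEquiv (LinearMap.toMatrixAlgEquiv
    (Module.finBasisOfFinrankEq (ZMod p) (Additive V) hfr)).toMulEquiv).toEquiv
  refine Equiv.trans ?_ (LinearMap.GeneralLinearGroup.generalLinearEquiv (ZMod p) (Additive V)).symm.toEquiv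
  exact
    { toFun := fun f => { (MulEquiv.toAdditive f) with
        map_smul' := fun c x => ZMod.map_smul (MulEquiv.toAdditive f).toAddMonoidHom c x }
      invFun := fun g => MulEquiv.toAdditive.symm g.toAddEquiv
      left_inv := fun f => rfl
      right_inv := fun g => rfl }

namespace Config

variable {E V : Type*} [Group E] [Finite E] [CommGroup V] [Finite V] [Nontrivial V]
  {φ : E →* MulAut V} {p : ℕ} [hp : Fact p.Prime]

/-- A normal `2`-subgroup on which an element of order `5` with small centraliser acts. -/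
theorem exists_elementary_sixteen {x : E} (hx : orderOf x = 5)
    (hC : centralizer ({x} : Set E) = zpowers x) (h320 : Nat.card E = 320) :
    ∃ W : Subgroup E, Nat.card W = 16 ∧ (∀ a ∈ W, a ^ 2 = 1) ∧
      ∀ a ∈ W, ∀ b ∈ W, a * b = b * a := by
  classical
  haveI : Fact (Nat.Prime 2) := ⟨Nat.prime_two⟩
  obtain ⟨K, hKn, hK2, hK1⟩ : ∃ K : Subgroup E, K.Normal ∧ IsPGroup 2 K ∧ K ≠ ⊥ := by
    obtain ⟨P⟩ : Nonempty (Sylow 2 E) := inferInstance
    have hP : Nat.card (P : Subgroup E) = 64 := by
      rw [P.card_eq_multiplicity, h320, show (320 : ℕ) = 2 ^ 6 * 5 by norm_num,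
        Nat.factorization_mul (by norm_num) (by norm_num), Finsupp.add_apply,
        Nat.factorization_pow, Finsupp.smul_apply, Nat.prime_two.factorization_self,
        Nat.factorization_eq_zero_of_not_dvd (by norm_num : ¬ (2 : ℕ) ∣ 5)]
      norm_num
    have hidx : (P : Subgroup E).index = 5 := by
      have := (P : Subgroup E).card_mul_index
      rw [hP, h320] at this
      omega
    by_cases hn : (P : Subgroup E).Normal
    · exact ⟨P, hn, P.isPGroup', fun h0 => by rw [h0, Subgroup.card_bot] at hP; omega⟩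
    refine ⟨(P : Subgroup E).normalCore, inferInstance,
      P.isPGroup'.to_le (Subgroup.normalCore_le _), fun h0 => ?_⟩
    have hf : Function.Injective (MulAction.toPermHom E (E ⧸ (P : Subgroup E))) := by
      rw [← MonoidHom.ker_eq_bot_iff, ← Subgroup.normalCore_eq_ker, h0]
    have hle := Nat.card_le_card_of_injective _ hf
    rw [h320, Nat.card_perm, ← Subgroup.index_eq_card, hidx] at hle
    norm_num [Nat.factorial] at hle
  haveI := hKn
  haveI : Nontrivial K := (Subgroup.nontrivial_iff_ne_bot K).mpr hK1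
  haveI := hK2.center_nontrivial
  let W : Subgroup E :=
    { carrier := {a | a ∈ K ∧ (∀ k ∈ K, k * a = a * k) ∧ a ^ 2 = 1}
      one_mem' := ⟨K.one_mem, fun k _ => by rw [mul_one, one_mul], one_pow 2⟩
      mul_mem' := fun {a b} ha hb => ⟨K.mul_mem ha.1 hb.1, fun k hk => by
          rw [← mul_assoc, ha.2.1 k hk, mul_assoc, hb.2.1 k hk, ← mul_assoc], by
          rw [Commute.mul_pow (hb.2.1 a ha.1), ha.2.2, hb.2.2, one_mul]⟩
      inv_mem' := fun {a} ha => ⟨K.inv_mem ha.1, fun k hk => by
          rw [show a⁻¹ = a by rw [inv_eq_iff_mul_eq_one, ← sq, ha.2.2]]; exact ha.2.1 k hk, by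
          rw [inv_pow, ha.2.2, inv_one]⟩ }
  refine ⟨W, ?_, fun a ha => ha.2.2, fun a ha b hb => hb.2.1 a ha.1⟩
  have hW2 : IsPGroup 2 W := hK2.to_le fun a ha => ha.1
  have hW1 : 1 < Nat.card W := by
    obtain ⟨z, hz⟩ := exists_prime_orderOf_dvd_card' (G := center K) 2 (by
      obtain ⟨m, hm⟩ := (hK2.to_subgroup (center K)).exists_card_eq
      rw [hm]
      exact dvd_pow_self 2 fun h0 => by
        have := Finite.one_lt_card (α := center K)
        rw [hm, h0] at this; omega)
    have hzE : orderOf ((z : K) : E) = 2 := by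
      rw [Subgroup.orderOf_coe, Subgroup.orderOf_coe, hz]
    refine Subgroup.one_lt_card_iff_ne_bot W |>.mpr fun hbot => ?_
    have hmem : ((z : K) : E) ∈ W := ⟨(z : K).2, fun k hk =>
      congrArg Subtype.val (mem_center_iff.mp z.2 ⟨k, hk⟩), by rw [← hzE, pow_orderOf_eq_one]⟩
    rw [hbot, Subgroup.mem_bot] at hmem
    rw [hmem, orderOf_one] at hzE
    omega
  have hinv : ∀ a ∈ W, MulAut.conj x a ∈ W := fun a ha => by
    show x * a * x⁻¹ ∈ W
    refine ⟨hKn.conj_mem a ha.1 x, fun k hk => ?_, by rw [conj_pow, ha.2.2, mul_one, mul_inv_cancel]⟩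
    have hk' := ha.2.1 _ (hKn.conj_mem k hk x⁻¹)
    calc k * (x * a * x⁻¹) = x * (x⁻¹ * k * x⁻¹⁻¹ * a) * x⁻¹ := by group
      _ = x * (a * (x⁻¹ * k * x⁻¹⁻¹)) * x⁻¹ := by rw [hk']
      _ = _ := by group
  have hfix : W ⊓ OutCriteria.fix (MulAut.conj x) = ⊥ := by
    rw [eq_bot_iff]
    intro a ⟨haW, haf⟩
    have hc : a ∈ centralizer ({x} : Set E) := mem_centralizer_singleton_iff.mpr (by
      have h1 : x * a * x⁻¹ = a := OutCriteria.mem_fix.mp haf
      exact (mul_inv_eq_iff_eq_mul.mp h1).symm)
    rw [hC] at hc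
    have h5 : orderOf a ∣ 5 := hx ▸ orderOf_dvd_of_mem_zpowers hc
    have h2 : orderOf a ∣ 2 := orderOf_dvd_of_pow_eq_one haW.2.2
    exact Subgroup.mem_bot.mpr (orderOf_eq_one_iff.mp (Nat.eq_one_of_dvd_coprimes (by norm_num) h2 h5))
  have hx5 : (MulAut.conj x) ^ 5 ^ 1 = 1 := by
    rw [pow_one, ← map_pow, ← hx, pow_orderOf_eq_one, map_one]
  have hmod := OutCriteria.card_fix_modEq (by norm_num : Nat.Prime 5) hx5 hinv
  rw [hfix, Subgroup.card_bot] at hmod
  obtain ⟨i, hi⟩ := hW2.exists_card_eq
  have hdvd : Nat.card W ∣ 320 := h320 ▸ W.card_subgroup_dvd_card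
  rw [hi] at hW1 hmod hdvd ⊢
  have hi6 : i ≤ 8 := by
    by_contra hlt
    have := Nat.le_of_dvd (by norm_num) hdvd
    have : 2 ^ 9 ≤ 2 ^ i := Nat.pow_le_pow_right (by norm_num) (by omega)
    omega
  unfold Nat.ModEq at hmod
  interval_cases i <;> omega

variable (h : Config φ p)

include h

theorem not_four_three (hp3 : p = 3) (hn : Nat.card V = p ^ 4) : False := by
  classical
  subst hp3
  obtain ⟨x, hx, hxcyc, hC, hall, hsq, -, -⟩ := h.prime_facts hn (r := 5) (by norm_num) (by norm_num)
    (fun i h1 h2 => by interval_cases i <;> norm_num)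
  obtain ⟨v, hv⟩ := exists_ne (1 : V)
  obtain ⟨s, hs⟩ := h.stab_sq v hv
  have hE : Nat.card E = 80 * s ^ 2 := by rw [h.card_eq_mul hv, hn, hs]; norm_num
  have hx1 : x ≠ 1 := fun h0 => by rw [h0, orderOf_one] at hx; omega
  have hdvd : Nat.card E ∣ 2 ^ 9 * 5 * 13 := by
    have h1 : Nat.card E ∣ Nat.card (MulAut V) := Subgroup.card_dvd_of_injective φ h.inj
    rw [card_mulAut_exponent h.pow_prime hn, Matrix.card_GL_field,
      ZMod.card] at h1
    norm_num [Fin.prod_univ_succ] at h1
    have hco : (Nat.card E).Coprime (3 ^ 6) :=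
      ((Nat.Prime.coprime_iff_not_dvd Nat.prime_three).mpr h.copr).symm.pow_right _
    refine hco.dvd_of_dvd_mul_left ?_
    norm_num at h1 ⊢
    exact h1
  have hs5 : s ^ 2 % 5 = 4 := by
    haveI : Fact (Nat.Prime 5) := ⟨by norm_num⟩
    have hK : Nat.card (conjugatesOf x) * 5 = Nat.card E := by
      rw [QBaer.card_conjugatesOf, ← (centralizer ({x} : Set E)).card_mul_index, hC, Nat.card_zpowers,
        hx, mul_comm]
    letI : MulAction (zpowers x) (conjugatesOf x) :=
      { smul := fun a y => ⟨(a : E) * (y : E) * (a : E)⁻¹,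
          IsConj.trans (show IsConj x (y : E) from y.2) (isConj_iff.mpr ⟨a, rfl⟩)⟩
        one_smul := fun y => Subtype.ext (by
          show (1 : E) * y * (1 : E)⁻¹ = y
          simp)
        mul_smul := fun a b y => Subtype.ext (by
          show ((a * b : zpowers x) : E) * y * ((a * b : zpowers x) : E)⁻¹ =
            (a : E) * ((b : E) * y * (b : E)⁻¹) * (a : E)⁻¹
          push_cast
          group) }
    have hP : IsPGroup 5 (zpowers x) := IsPGroup.of_card (n := 1) (by rw [Nat.card_zpowers, hx, pow_one])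
    have hmod := hP.card_modEq_card_fixedPoints (conjugatesOf x)
    have hfix : Nat.card (MulAction.fixedPoints (zpowers x) (conjugatesOf x)) = 4 := by
      let f : MulAction.fixedPoints (zpowers x) (conjugatesOf x) → {a : zpowers x // a ≠ 1} := fun y =>
        ⟨⟨((y.1 : conjugatesOf x) : E), by
          have hmem : ((y.1 : conjugatesOf x) : E) ∈ centralizer ({x} : Set E) := by
            rw [mem_centralizer_singleton_iff]
            have := congrArg Subtype.val (y.2 ⟨x, mem_zpowers x⟩)
            change x * ((y.1 : conjugatesOf x) : E) * x⁻¹ = _ at this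
            exact (mul_inv_eq_iff_eq_mul.mp this).symm
          exact hC.le hmem⟩, fun h0 => by
          have h1 : IsConj x ((y.1 : conjugatesOf x) : E) := y.1.2
          rw [show ((y.1 : conjugatesOf x) : E) = 1 from congrArg Subtype.val h0,
            isConj_comm, isConj_one_right] at h1
          exact hx1 h1⟩
      have hf : Function.Bijective f := by
        refine ⟨fun a b hab => Subtype.ext (Subtype.ext (congrArg (fun z => ((z.1 : zpowers x) : E)) hab)), ?_⟩
        rintro ⟨⟨a, ha⟩, ha1⟩
        have hord : orderOf a = 5 := by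
          refine ((Nat.dvd_prime (by norm_num)).mp (hx ▸ orderOf_dvd_of_mem_zpowers ha)).resolve_left
            fun h0 => ha1 (Subtype.ext (orderOf_eq_one_iff.mp h0))
        refine ⟨⟨⟨a, hall a hord⟩, fun b => Subtype.ext ?_⟩, rfl⟩
        show (b : E) * a * (b : E)⁻¹ = a
        obtain ⟨i, hi⟩ := mem_zpowers_iff.mp b.2
        obtain ⟨j, rfl⟩ := mem_zpowers_iff.mp ha
        rw [← hi, (Commute.zpow_zpow_self x i j).eq, mul_inv_cancel_right]
      haveI := Fintype.ofFinite (zpowers x)
      rw [Nat.card_congr (Equiv.ofBijective f hf), Nat.card_eq_fintype_card,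
        Fintype.card_subtype_compl, Fintype.card_subtype_eq, ← Nat.card_eq_fintype_card,
        Nat.card_zpowers, hx]
    rw [hfix] at hmod
    unfold Nat.ModEq at hmod
    omega
  have hs2 : s = 2 := by
    rw [hE] at hdvd
    have h1 : s ^ 2 ∣ 2 ^ 5 * 13 := by
      refine Nat.dvd_of_mul_dvd_mul_left (show 0 < 80 by norm_num) ?_
      norm_num at hdvd ⊢
      exact hdvd
    have hle : s ≤ 20 := by
      by_contra hlt
      have := Nat.le_of_dvd (by norm_num) h1
      nlinarith
    interval_cases s <;> omega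
  subst hs2
  obtain ⟨W, hW, hW2, hWc⟩ := exists_elementary_sixteen hx hC (by rw [hE]; norm_num)
  -- a vector fixed or inverted by all of `W`
  haveI := Fintype.ofFinite V
  let good : V → Set E := fun u => {a | a ∈ W ∧ (φ a u = u ∨ φ a u = u⁻¹)}
  obtain ⟨u, hu, hmax⟩ := Finset.exists_max_image (Finset.univ.filter fun u : V => u ≠ 1)
    (fun u => (good u).ncard) ⟨v, by simp [hv]⟩
  have hu1 : u ≠ 1 := (Finset.mem_filter.mp hu).2
  have hgood : ∀ a ∈ W, φ a u = u ∨ φ a u = u⁻¹ := by
    by_contra hno
    push Not at hno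
    obtain ⟨a, ha, ha1, ha2⟩ := hno
    set w := u * φ a u
    have hw1 : w ≠ 1 := fun h0 => ha2 (eq_inv_of_mul_eq_one_right h0)
    have haw : φ a w = w := by
      rw [map_mul, ← MulAut.mul_apply, ← map_mul, ← sq, hW2 a ha, map_one, MulAut.one_apply, mul_comm]
    have hsub : good u ⊂ good w := by
      refine (Set.ssubset_iff_of_subset (fun b (hb : b ∈ good u) => show b ∈ good w from ⟨hb.1, ?_⟩)).mpr
        ⟨a, ⟨ha, Or.inl haw⟩, fun hc => hc.2.elim ha1 ha2⟩
      have hab : φ b (φ a u) = φ a (φ b u) := by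
        rw [← MulAut.mul_apply, ← map_mul, hWc b hb.1 a ha, map_mul, MulAut.mul_apply]
      rcases hb.2 with hbu | hbu
      · exact Or.inl (by rw [map_mul, hab, hbu])
      · exact Or.inr (by rw [map_mul, hab, hbu, map_inv, mul_inv])
    exact absurd (hmax w (by simp [hw1])) (not_le.mpr (Set.ncard_lt_ncard hsub (Set.toFinite _)))
  obtain ⟨t, ht⟩ := h.stab_sq u hu1
  have hSu : Nat.card (FPF.stabOf φ u) = 4 := by
    have := h.card_eq_mul hu1
    rw [hE, hn] at this
    omega
  -- the stabiliser in `W` has index at most two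
  let S : Subgroup W := (FPF.stabOf φ u).subgroupOf W
  have hS : S.index ≤ 2 := by
    let q : W ⧸ S → Bool := fun z => decide (φ ((Quotient.out z : W) : E) u = u)
    have hq : Function.Injective q := by
      intro z z' hzz
      rw [← QuotientGroup.out_eq' z, ← QuotientGroup.out_eq' z', QuotientGroup.eq]
      set a : W := Quotient.out z
      set b : W := Quotient.out z'
      show φ ((a⁻¹ * b : W) : E) u = u
      push_cast
      rw [map_mul, MulAut.mul_apply, map_inv]
      refine (φ (a : E)).injective ?_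
      rw [MulAut.apply_inv_self]
      simp only [q, decide_eq_decide] at hzz
      by_cases h1 : φ (a : E) u = u
      · rw [h1, hzz.mp h1]
      · rw [(hgood _ a.2).resolve_left h1, (hgood _ b.2).resolve_left fun h2 => h1 (hzz.mpr h2)]
    have := Nat.card_le_card_of_injective q hq
    rwa [Nat.card_eq_fintype_card (α := Bool), Fintype.card_bool, ← Subgroup.index_eq_card] at this
  have h8 := S.card_mul_index
  rw [hW] at h8
  have hle : Nat.card S ≤ 4 := hSu ▸ Nat.card_le_card_of_injective
    (fun a : S => (⟨((a : W) : E), a.2⟩ : FPF.stabOf φ u))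
    (fun a b hab => Subtype.ext (Subtype.ext (congrArg Subtype.val hab :)))
  nlinarith

theorem card_eq_three : Nat.card V = 3 := by
  obtain ⟨n, hn⟩ := h.pgroup.exists_card_eq
  have h1 := Finite.one_lt_card (α := V)
  have hodd := h.odd_prime
  have hp2 := hp.out.two_le
  rcases n with _ | _ | _ | n
  · rw [hn, pow_zero] at h1; omega
  · rw [hn, zero_add, pow_one, h.case_one (by rw [hn, zero_add, pow_one])]
  · exact (h.case_two hn).elim
  exfalso
  obtain ⟨v, hv⟩ := exists_ne (1 : V)
  by_cases hex : Zsigmondy.IsExceptional p (n + 3)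
  · rcases hex with ⟨hq, -⟩ | ⟨hq, h4 | h6⟩ | ⟨hq, h6⟩
    · exact hodd hq
    · exact h.not_four_three hq (by rw [hn, show n + 3 = 4 from h4])
    · obtain ⟨x, -, -, -, -, -, -, hmod⟩ := h.prime_facts (n := 6) (r := 7)
        (by rw [hn, show n + 3 = 6 from h6]) (by norm_num) (by subst hq; norm_num)
        (fun i h1 h2 => by subst hq; interval_cases i <;> norm_num)
      exact hmod rfl
    · obtain ⟨x, -, -, -, -, -, -, hmod⟩ := h.prime_facts (n := 6) (r := 7)
        (by rw [hn, show n + 3 = 6 from h6]) (by norm_num) (by subst hq; norm_num)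
        (fun i h1 h2 => by subst hq; interval_cases i <;> norm_num)
      exact hmod rfl
  obtain ⟨r, hr, hrd, hprim, hbig⟩ := Zsigmondy.exists_large hp2 (by omega : 2 < n + 3) hex
  obtain ⟨x, -, -, -, -, hr2, hle, -⟩ := h.prime_facts hn hr hrd fun i h1 h2 => hprim i h2 h1
  rcases hbig with hbig | hbig
  · omega
  · exact hr2 (h.card_eq_mul hv ▸ (hn ▸ hbig).mul_right _)

end Config

end Cfsg.Agent.BlockThree
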