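import Cfsg.Agent.Lib.BlockFour.Main
import Cfsg.Agent.Lib.BrauerPairs.RegularOrth
import Cfsg.Agent.Lib.BlocksNormal.Count
import Cfsg.Agent.Lib.Blocks.KleinDefect

/-!
# Blocks with one character trivial on a normal abelian `p`-subgroup

* `blockRank_eq_one`: such a block has `p`-regular rank one;
* `card_defectGroup_le_three`: with at most three members the defect groups have order at most three.
-/

set_option autoImplicit false
set_option linter.style.haveILetI false
set_option linter.unusedSectionVars false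

open scoped ComplexConjugate

namespace Cfsg.Agent.BlockThree

open Cfsg Cfsg.Agent.Blocks

variable {G : Type*} [Group G] [Fintype G] {p : ℕ} [hp : Fact p.Prime] {M : Ideal AlgInt}

/-- The regular elements of a coset of a normal abelian `p`-subgroup form one orbit. -/
theorem exists_regular_orbit {A : Subgroup G} [A.Normal] (hA : IsPGroup p A)
    (hab : ∀ a ∈ A, ∀ b ∈ A, a * b = b * a) {x : G} (hx : IsPRegular p x) {a : G} (ha : a ∈ A)
    (hxa : IsPRegular p (x * a)) : IsConj x (x * a) := by
  classical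
  let c : A →* A :=
    { toFun := fun b => ⟨x⁻¹ * ((b : G) * x * (b : G)⁻¹), by
        have := A.mul_mem ((inferInstance : A.Normal).conj_mem _ b.2 x⁻¹) (A.inv_mem b.2)
        simpa [mul_assoc] using this⟩
      map_one' := Subtype.ext (by simp)
      map_mul' := fun b d => Subtype.ext (by
        push_cast
        have hm : x⁻¹ * ((d : G) * x * (d : G)⁻¹) ∈ A := by
          have := A.mul_mem ((inferInstance : A.Normal).conj_mem _ d.2 x⁻¹) (A.inv_mem d.2)
          simpa [mul_assoc] using this
        have h2 := hab _ (A.inv_mem b.2) _ hm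
        calc x⁻¹ * ((b : G) * d * x * ((b : G) * d)⁻¹)
            = x⁻¹ * b * x * ((x⁻¹ * ((d : G) * x * (d : G)⁻¹)) * (b : G)⁻¹) := by group
          _ = x⁻¹ * b * x * ((b : G)⁻¹ * (x⁻¹ * ((d : G) * x * (d : G)⁻¹))) := by rw [h2]
          _ = _ := by group) }
  have hc : ∀ b : A, ((c b : A) : G) = x⁻¹ * ((b : G) * x * (b : G)⁻¹) := fun b => rfl
  have hconj : ∀ b : A, x * (c b : G) = (b : G) * x * (b : G)⁻¹ := fun b => by rw [hc]; group
  have hcm : ∀ d : A, d ∈ c.ker → x * (d : G) = (d : G) * x := fun d hd => by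
    have := congrArg Subtype.val (MonoidHom.mem_ker.mp hd)
    rw [hc, Subgroup.coe_one, inv_mul_eq_one] at this
    exact (eq_mul_inv_iff_mul_eq.mp this)
  have hzero : ∀ d : A, d ∈ c.ker → IsPRegular p (x * d) → d = 1 := by
    intro d hd hreg
    refine Subtype.ext ?_
    have h1 := BlocksNormal.eq_of_regular_of_mem hp.out (P := Subgroup.zpowers (d : G))
      (hA.to_le (Subgroup.zpowers_le.mpr d.2)) hx hreg (x' := x * d)
      (Subgroup.mem_centralizer_iff.mpr fun z hz => by
        obtain ⟨i, rfl⟩ := Subgroup.mem_zpowers_iff.mp hz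
        exact (Commute.zpow_right (show Commute x (d : G) from hcm d hd) i).eq.symm)
      (by rw [inv_mul_cancel_left]; exact Subgroup.mem_zpowers _)
    exact mul_eq_left.mp h1.symm
  have hregconj : ∀ b : A, IsPRegular p (x * (c b : G)) := fun b => by
    unfold IsPRegular at *
    rw [hconj, show orderOf ((b : G) * x * (b : G)⁻¹) = orderOf x from
      orderOf_injective (MulAut.conj (b : G)).toMonoidHom (MulAut.conj (b : G)).injective _]
    exact hx
  -- every element is a commutator times a fixed element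
  let μ : c.range × c.ker → A := fun q => (q.1 : A) * (q.2 : A)
  have hμ : Function.Bijective μ := by
    refine (Nat.bijective_iff_injective_and_card μ).mpr ⟨fun q q' hqq => ?_, ?_⟩
    · obtain ⟨b, hb⟩ : ((q'.1 : A))⁻¹ * (q.1 : A) ∈ c.range := mul_mem (inv_mem q'.1.2) q.1.2
      have hk : ((q'.1 : A))⁻¹ * (q.1 : A) = (q'.2 : A) * (q.2 : A)⁻¹ := by
        rw [eq_mul_inv_iff_mul_eq, mul_assoc, inv_mul_eq_iff_eq_mul]
        exact hqq
      have hmem : ((q'.1 : A))⁻¹ * (q.1 : A) ∈ c.ker := hk ▸ mul_mem q'.2.2 (inv_mem q.2.2)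
      have h1 := hzero _ hmem (hb ▸ hregconj b)
      have e1 : (q.1 : A) = q'.1 := (inv_mul_eq_one.mp h1).symm
      have e2 : (q.2 : A) = q'.2 := by
        rw [hk] at h1
        exact (mul_inv_eq_one.mp h1).symm
      exact Prod.ext (Subtype.ext e1) (Subtype.ext e2)
    · rw [Nat.card_prod, ← Nat.card_congr (QuotientGroup.quotientKerEquivRange c).toEquiv]
      exact (Subgroup.card_eq_card_quotient_mul_card_subgroup c.ker).symm
  obtain ⟨⟨⟨_, b, rfl⟩, d, hd⟩, hbd⟩ := hμ.2 ⟨a, ha⟩
  have hval : a = (c b : G) * (d : G) := (congrArg Subtype.val hbd).symm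
  have hbd' : x * a = (b : G) * (x * d) * (b : G)⁻¹ := by
    rw [hval, ← mul_assoc, hconj, mul_assoc _ (b : G)⁻¹,
      hab _ (A.inv_mem b.2) _ d.2]
    group
  have hd1 : d = 1 := hzero d hd (by
    unfold IsPRegular at hxa ⊢
    rwa [hbd', show orderOf ((b : G) * (x * d) * (b : G)⁻¹) = orderOf (x * d) from
      orderOf_injective (MulAut.conj (b : G)).toMonoidHom (MulAut.conj (b : G)).injective _] at hxa)
  rw [hbd', hd1, Subgroup.coe_one, mul_one]
  exact isConj_iff.mpr ⟨b, rfl⟩

open scoped Classical in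
theorem blockRank_eq_one (hM : IsPModular p M) {B : Set (IrrCharacter G)} (hB : IsPBlock M B)
    {A : Subgroup G} [A.Normal] (hA : IsPGroup p A) (hab : ∀ a ∈ A, ∀ b ∈ A, a * b = b * a)
    {χ₁ : IrrCharacter G}
    (huniq : ∀ χ ∈ B, (∀ a ∈ A, (χ : G → ℂ) a = (χ : G → ℂ) 1) → χ = χ₁) :
    blockRank p B = 1 := by
  haveI := Fintype.ofFinite A
  haveI := Fintype.ofFinite (IrrCharacter (G ⧸ A))
  refine le_antisymm ?_ (KleinDefect.blockRank_pos hM hB)
  set k : G → ℕ := fun x => (Finset.univ.filter fun a : A => IsPRegular p (x * a)).card with hk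
  have hreg1 : IsPRegular p (1 : G) := by
    unfold IsPRegular
    rw [orderOf_one, Nat.dvd_one]
    exact hp.out.one_lt.ne'
  have hk1 : k 1 = 1 := by
    rw [hk, Finset.card_eq_one]
    refine ⟨1, Finset.ext fun a => ?_⟩
    simp only [Finset.mem_filter, Finset.mem_univ, true_and, one_mul, Finset.mem_singleton]
    refine ⟨fun h => ?_, fun h => by rw [h]; exact hreg1⟩
    obtain ⟨j, hj⟩ := IsPGroup.iff_orderOf.mp hA a
    unfold IsPRegular at h
    rw [Subgroup.orderOf_coe, hj] at h
    rcases Nat.eq_zero_or_pos j with rfl | hj0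
    · exact orderOf_eq_one_iff.mp (by rw [hj, pow_zero])
    · exact absurd (dvd_pow_self p hj0.ne') h
  have key : ∀ χ ∈ B, ∃ c : ℂ, ∀ x : G, IsPRegular p x →
      (k x : ℂ) * (χ : G → ℂ) x = c * (χ₁ : G → ℂ) x := by
    intro χ hχ
    set r := pRegularPart p (χ : G → ℂ) with hr
    let f : G → ℂ := fun g => ∑ a : A, r (g * a)
    have hfA : ∀ (g : G) (a : A), f (g * a) = f g := fun g a =>
      Fintype.sum_equiv (Equiv.mulLeft a) _ _ fun b => by rw [Equiv.coe_mulLeft, Subgroup.coe_mul, ← mul_assoc]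
    have hrcl : IsClassFunction G r := BrauerPairs.isClassFunction_pRegularPart (irr_class χ)
    have hfcl : ∀ g h : G, f (h * g * h⁻¹) = f g := fun g h => by
      refine Fintype.sum_equiv ((MulAut.conjNormal h⁻¹ : MulAut A)).toEquiv _ _ fun a => ?_
      show r (h * g * h⁻¹ * (a : G)) = r (g * ((MulAut.conjNormal h⁻¹ : MulAut A) a : G))
      rw [← hrcl (g * ((MulAut.conjNormal h⁻¹ : MulAut A) a : G)) h]
      congr 1
      rw [MulAut.conjNormal_apply]
      group
    let fb : G ⧸ A → ℂ := fun z => f (Quotient.out z)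
    have hfb : ∀ g : G, fb (g : G ⧸ A) = f g := fun g => by
      obtain ⟨a, ha⟩ := QuotientGroup.mk_out_eq_mul A g
      show f (Quotient.out _) = _
      rw [ha, hfA]
    have hfbcl : IsClassFunction (G ⧸ A) fb := fun z w => by
      obtain ⟨g, rfl⟩ := QuotientGroup.mk_surjective z
      obtain ⟨h, rfl⟩ := QuotientGroup.mk_surjective w
      rw [← QuotientGroup.mk_inv, ← QuotientGroup.mk_mul, ← QuotientGroup.mk_mul, hfb, hfb, hfcl]
    let infl : IrrCharacter (G ⧸ A) → IrrCharacter G := fun η =>
      ⟨_, Char.IsIrrCharacter.comp_surjective η.2 (QuotientGroup.mk' A) (QuotientGroup.mk'_surjective A)⟩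
    have hinfl : ∀ η (g : G), (infl η : G → ℂ) g = (η : G ⧸ A → ℂ) (g : G ⧸ A) := fun _ _ => rfl
    have hinj : Function.Injective infl := fun η η' h => Subtype.ext (funext fun z => by
      obtain ⟨g, rfl⟩ := QuotientGroup.mk_surjective z
      exact congrFun (congrArg Subtype.val h) g)
    set c : IrrCharacter (G ⧸ A) → ℂ := fun η => classInner fb (η : G ⧸ A → ℂ)
    have hexp : f = ∑ η, c η • (infl η : G → ℂ) := by
      funext g
      rw [← hfb]
      conv_lhs => rw [Char.classFunction_eq_sum hfbcl]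
      simp only [Finset.sum_apply, Pi.smul_apply, smul_eq_mul, hinfl]
      rfl
    have hc : ∀ η, c η = (Nat.card A : ℂ) * classInner r (infl η : G → ℂ) := by
      intro η
      have h1 : classInner f (infl η : G → ℂ) = c η := by
        rw [hexp, Char.classInner_sum_left, Finset.sum_eq_single η]
        · rw [Char.classInner_smul_left, Char.classInner_irr_self (infl η).2, mul_one]
        · intro η' _ hne
          rw [Char.classInner_smul_left, Char.classInner_irr_of_ne (infl η').2 (infl η).2
            (fun h => hne (hinj (Subtype.ext h))), mul_zero]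
        · exact fun h => absurd (Finset.mem_univ _) h
      rw [← h1, classInner, classInner, ← mul_assoc, mul_comm (Nat.card A : ℂ), mul_assoc]
      congr 1
      simp only [f, Finset.sum_mul]
      rw [Finset.sum_comm, Nat.card_eq_fintype_card, ← nsmul_eq_mul, ← Finset.card_univ,
        ← Finset.sum_const]
      refine Finset.sum_congr rfl fun a _ => Fintype.sum_equiv (Equiv.mulRight (a : G)) _ _ fun g => ?_
      rw [Equiv.coe_mulRight, hinfl, hinfl, QuotientGroup.mk_mul_of_mem g a.2]
    have hother : ∀ η, infl η ≠ χ₁ → c η = 0 := by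
      intro η hne
      rw [hc, BrauerPairs.classInner_pRegularPart_eq_zero hM hB hχ fun hmem => hne (huniq _ hmem
        fun a ha => by rw [hinfl, hinfl, (QuotientGroup.eq_one_iff a).mpr ha, QuotientGroup.mk_one]),
        mul_zero]
    refine ⟨∑ η, if infl η = χ₁ then c η else 0, fun x hx => ?_⟩
    have hfx : f x = (k x : ℂ) * (χ : G → ℂ) x := by
      simp only [f, hr, pRegularPart, hk]
      rw [← Finset.sum_filter, Finset.sum_congr rfl (g := fun _ => (χ : G → ℂ) x) (fun a ha => ?_),
        Finset.sum_const, nsmul_eq_mul]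
      obtain ⟨t, ht⟩ := isConj_iff.mp (exists_regular_orbit hA hab hx a.2 (Finset.mem_filter.mp ha).2)
      rw [← ht, irr_class χ x t]
    rw [← hfx, hexp, Finset.sum_mul]
    simp only [Finset.sum_apply, Pi.smul_apply, smul_eq_mul]
    refine Finset.sum_congr rfl fun η _ => ?_
    by_cases h : infl η = χ₁
    · rw [if_pos h, h]
    · rw [if_neg h, hother η h, zero_mul, zero_mul]
  have hχ₁ : χ₁ ∈ B := by
    obtain ⟨χ, hχ, hχA⟩ := BlocksNormal.exists_mem_trivOn hM hB A hA
    exact huniq χ hχ hχA ▸ hχ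
  obtain ⟨c₁, hc₁⟩ := key χ₁ hχ₁
  have hc1 : c₁ = 1 := by
    have := hc₁ 1 hreg1
    rw [hk1, Nat.cast_one, one_mul] at this
    exact (mul_eq_right₀ (irr_one_ne_zero χ₁)).mp this.symm
  rw [blockRank]
  refine (Submodule.finrank_mono (t := Submodule.span ℂ {pRegularPart p (χ₁ : G → ℂ)}) ?_).trans
    ((finrank_span_le_card _).trans (by simp))
  refine Submodule.span_le.mpr ?_
  rintro _ ⟨χ, hχ, rfl⟩
  obtain ⟨c, hc⟩ := key χ hχ
  refine Submodule.mem_span_singleton.mpr ⟨c, funext fun x => ?_⟩
  simp only [Pi.smul_apply, smul_eq_mul, pRegularPart]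
  split_ifs with hx
  · have h0 := hc₁ x hx
    rw [hc1, one_mul] at h0
    have h1 := hc x hx
    by_cases hk' : (k x : ℂ) = 1
    · rw [hk', one_mul] at h1; exact h1.symm
    · have hz : (χ₁ : G → ℂ) x = 0 := (mul_eq_zero.mp (show ((k x : ℂ) - 1) * (χ₁ : G → ℂ) x = 0 by
        linear_combination h0)).resolve_left (sub_ne_zero.mpr hk')
      rw [hz, mul_zero] at h1 ⊢
      have hkpos : (k x : ℂ) ≠ 0 := by
        rw [Nat.cast_ne_zero]
        exact Finset.card_ne_zero.mpr ⟨1, Finset.mem_filter.mpr ⟨Finset.mem_univ _, by simpa using hx⟩⟩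
      exact ((mul_eq_zero.mp h1).resolve_left hkpos).symm
  · simp

/-- One character trivial on a normal abelian `p`-subgroup and at most three members. -/
theorem card_defectGroup_le_three (hM : IsPModular p M) {B : Set (IrrCharacter G)} (hB : IsPBlock M B)
    {D : Subgroup G} (hD : IsDefectGroup p M B D) (hl : blockRank p B = 1) (h3 : Nat.card B ≤ 3) :
    Nat.card D ≤ 3 := by
  classical
  haveI := Fintype.ofFinite (IrrCharacter G)
  obtain ⟨e, h, φ, hφ, -, hdef, hdeg, hh, hall⟩ := BlockDefect.exists_degrees hM hB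
  obtain ⟨N, hN, hsum⟩ := BlockDefect.exists_sum_sq hM hB hφ hdeg hh hall
  obtain ⟨n, c, hc, hdim, hdvd⟩ := BlockFour.exists_dims_of_rank_one hM hB hl (by omega)
  have hdegsum : BlockTwo.degSum B = p ^ ((Nat.card G).factorization p + e) * N := by
    rw [← hsum, BlockTwo.degSum]
    exact Finset.sum_congr (by ext χ; simp) fun _ _ => rfl
  set a := (Nat.card G).factorization p
  have hN0 : N ≠ 0 := fun h0 => hN (h0 ▸ dvd_zero p)
  have hne : c * (n * n) ≠ 0 := by
    rw [← hdim, hdegsum]
    exact mul_ne_zero (pow_ne_zero _ hM.1.ne_zero) hN0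
  have hc0 : c ≠ 0 := fun h => hne (by rw [h, zero_mul])
  have hn0 : n ≠ 0 := fun h => hne (by rw [h, mul_zero, mul_zero])
  have hv : a + e = c.factorization p + (n.factorization p + n.factorization p) := by
    have h1 : (p ^ (a + e) * N).factorization p = a + e := by
      rw [Nat.factorization_mul (pow_ne_zero _ hM.1.ne_zero) hN0,
        Finsupp.add_apply, hM.1.factorization_pow, Finsupp.single_eq_same,
        Nat.factorization_eq_zero_of_not_dvd hN, add_zero]
    rw [← h1, ← hdegsum, hdim, Nat.factorization_mul hc0 (mul_ne_zero hn0 hn0),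
      Nat.factorization_mul hn0 hn0]
    simp only [Finsupp.add_apply]
  have hp' : a ≤ c.factorization p + n.factorization p := by
    have := (hM.1.pow_dvd_iff_le_factorization (mul_ne_zero hc0 hn0)).mp hdvd
    rwa [Nat.factorization_mul hc0 hn0, Finsupp.add_apply] at this
  rw [card_defectGroup hM hB hD, hdef]
  calc p ^ (a - e) ≤ p ^ c.factorization p := Nat.pow_le_pow_right hp.out.pos (by omega)
    _ ≤ c := Nat.ordProj_le p hc0
    _ ≤ 3 := hc.trans h3

end Cfsg.Agent.BlockThree
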