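import Cfsg.Agent.Lib.BlockThree.Setting
import Cfsg.Agent.Lib.BlocksNormal.QuotientDefect
import Cfsg.Agent.Lib.BlockTwo.Main

/-!
# Blocks with a normal defect group and at most three characters of height zero

* `card_le_three_of_abelianization`: the quotient of the defect group by its derived subgroup has
  order at most three;
* `card_eq_three`: the defect group has order three, if the block has three characters and the
  correspondent has as many of height zero.
-/

set_option autoImplicit false
set_option linter.style.haveILetI false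
set_option linter.unusedSectionVars false

namespace Cfsg.Agent.BlockThree

open Cfsg Cfsg.Agent.Blocks

variable {G : Type*} [Group G] [Fintype G] {p : ℕ} [hp : Fact p.Prime] {M : Ideal AlgInt}

/-- In a block with normal abelian defect group `A` all degrees have the `p`-part of `|G : A|`. -/
theorem factorization_degree_abelian (hM : IsPModular p M) {B : Set (IrrCharacter G)}
    (hB : IsPBlock M B) {A : Subgroup G} [A.Normal] (hab : ∀ a ∈ A, ∀ b ∈ A, a * b = b * a)
    (hD : IsDefectGroup p M B A) {χ : IrrCharacter G} (hχ : χ ∈ B) :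
    (charDegree (χ : G → ℂ)).factorization p = A.index.factorization p := by
  classical
  have hAp := isPGroup_defectGroup hM hD
  set C := Subgroup.centralizer (A : Set G)
  haveI : C.Normal := Subgroup.normal_centralizer
  haveI := Fintype.ofFinite C
  have hAC : A ≤ C := fun a ha => Subgroup.mem_centralizer_iff.mpr fun b hb => hab b hb a ha
  obtain ⟨η, hη⟩ := BlocksNormal.exists_constituent C χ
  have hbb : IsPBlock M (blockOf M (η : C → ℂ)) := ⟨η, rfl⟩
  have hind : IsInducedBlock M C (blockOf M (η : C → ℂ)) B :=
    BlocksNormal.isInducedBlock_of_cover hM C hAp le_rfl hbb hB ⟨χ, hχ, η, mem_blockOf_self hM η, hη⟩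
  have hbD : IsDefectGroup p M (blockOf M (η : C → ℂ)) (A.subgroupOf C) :=
    BlocksNormal.isDefectGroup_of_induced hM hAC (by rw [Subgroup.normalizer_eq_top]; exact le_top) hind hD
  haveI : (A.subgroupOf C).Normal := Subgroup.Normal.subgroupOf inferInstance C
  have hZ : Subgroup.centralizer ((A.subgroupOf C : Subgroup C) : Set C) = ⊤ :=
    eq_top_iff.mpr fun g _ => Subgroup.mem_centralizer_iff.mpr fun a ha =>
      Subtype.ext (Subgroup.mem_centralizer_iff.mp g.2 (a : G) ha)
  have hη' := (BlocksNormal.abelian_iff_degree_eq hM (hAp.of_equiv (Subgroup.subgroupOfEquivOfLe hAC).symm)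
    (by rw [hZ, sup_top_eq]) hbb hbD).mp (fun a b => Subtype.ext (Subtype.ext (hab _ a.2 _ b.2))) η
    (mem_blockOf_self hM η)
  rw [BlocksNormal.factorization_degree_over hM hB hD hAC le_rfl hχ hη, hη']
  have h : (A.subgroupOf C).index * C.index = A.index := Subgroup.relIndex_mul_index hAC
  rw [← h, Nat.factorization_mul Subgroup.index_ne_zero_of_finite Subgroup.index_ne_zero_of_finite,
    Finsupp.add_apply, add_comm]

/-- The abelianised defect group of a block with normal defect group and few height-zero characters. -/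
theorem card_le_three_of_abelianization (hM : IsPModular p M) {b : Set (IrrCharacter G)}
    (hb : IsPBlock M b) {D : Subgroup G} [D.Normal] (hD : IsDefectGroup p M b D)
    (h3 : Nat.card {χ : IrrCharacter G // χ ∈ b ∧ blockHeight p b (χ : G → ℂ) = 0} ≤ 3) :
    Nat.card (D.map (QuotientGroup.mk' ⁅D, D⁆)) ≤ 3 := by
  classical
  have hDp := isPGroup_defectGroup hM hD
  set W := ⁅D, D⁆
  have hWD : W ≤ D := Subgroup.commutator_le_self D
  obtain ⟨bb, hbb, hsub, hdef⟩ := QuotientDefect.exists_full_block hM W (hDp.to_le hWD) hb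
  set A := D.map (QuotientGroup.mk' W)
  haveI : A.Normal := Subgroup.Normal.map inferInstance _ (QuotientGroup.mk'_surjective W)
  haveI := Fintype.ofFinite (G ⧸ W)
  have hAD : IsDefectGroup p M bb A := (hdef A).mpr ⟨D, hD, rfl⟩
  have hab : ∀ a ∈ A, ∀ c ∈ A, a * c = c * a := by
    rintro _ ⟨a, ha, rfl⟩ _ ⟨c, hc, rfl⟩
    rw [← commutatorElement_eq_one_iff_mul_comm, ← map_commutatorElement, QuotientGroup.mk'_apply,
      QuotientGroup.eq_one_iff]
    exact Subgroup.commutator_mem_commutator ha hc
  have hidx : A.index = D.index := by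
    rw [Subgroup.index_map_eq _ (QuotientGroup.mk'_surjective W) (by rwa [QuotientGroup.ker_mk'])]
  obtain ⟨e, h, φ, hφ, hea, hdefect, hdeg, hh, hall⟩ := BlockDefect.exists_degrees hM hb
  have hDidx : D.index.factorization p = e := by
    have h1 := congrArg (fun k : ℕ => k.factorization p) D.card_mul_index
    rw [card_defectGroup hM hb hD, hdefect] at h1
    simp only [Nat.factorization_mul (pow_ne_zero _ hp.out.ne_zero) Subgroup.index_ne_zero_of_finite,
      Finsupp.add_apply, hp.out.factorization_pow, Finsupp.single_eq_same] at h1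
    omega
  refine card_le_three hM hbb hab hAD (le_trans ?_ h3)
  let F : bb → {χ : IrrCharacter G // χ ∈ b ∧ blockHeight p b (χ : G → ℂ) = 0} := fun η =>
    ⟨⟨_, Char.IsIrrCharacter.comp_surjective η.1.2 (QuotientGroup.mk' W) (QuotientGroup.mk'_surjective W)⟩,
      hsub η.1 η.2 _ rfl, by
        rw [blockHeight]
        have hdeg' : charDegree ((η.1 : G ⧸ W → ℂ) ∘ QuotientGroup.mk' W) = charDegree (η.1 : G ⧸ W → ℂ) := by
          simp [charDegree, Function.comp]
        show (charDegree ((η.1 : G ⧸ W → ℂ) ∘ QuotientGroup.mk' W)).factorization p - _ = 0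
        rw [hdeg', factorization_degree_abelian hM hbb hab hAD η.2, hidx, hDidx, Nat.sub_eq_zero_iff_le]
        refine le_csInf ⟨_, φ, hφ, rfl⟩ ?_
        rintro _ ⟨ψ, hψ, rfl⟩
        exact (hp.out.pow_dvd_iff_le_factorization (charDegree_pos ψ).ne').mp (hall ψ hψ)⟩
  exact Nat.card_le_card_of_injective F fun η η' hηη => Subtype.ext (Subtype.ext
    ((QuotientGroup.mk'_surjective W).injective_comp_right
      (congrArg (fun z : {χ : IrrCharacter G // χ ∈ b ∧ blockHeight p b (χ : G → ℂ) = 0} =>
        ((z : IrrCharacter G) : G → ℂ)) hηη)))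

end Cfsg.Agent.BlockThree
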