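import Cfsg.Agent.Lib.OutCriteria.Basic

/-!
# Irreducible elements of prime order in linear groups

For `E` acting faithfully on an abelian `p`-group `V` of order `p ^ n` and exponent `p`:
* `irreducible_of_primitive`: an element of primitive prime order `r` acts irreducibly;
* `cyclic_centralizer`: then it has a cyclic centraliser;
* `card_conj_powers_le`: at most `n` of its powers are conjugate to it.
-/

set_option autoImplicit false
set_option linter.unusedSectionVars false
set_option linter.style.haveILetI false

namespace Cfsg.Agent.BlockThree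

open Subgroup

variable {E V : Type*} [Group E] [Finite E] [CommGroup V] [Finite V] [Nontrivial V]
  (φ : E →* MulAut V)

/-- Invariant subgroups of the image of `x` are trivial. -/
def IsIrred (x : E) : Prop := ∀ S : Subgroup V, (∀ v ∈ S, φ x v ∈ S) → S = ⊥ ∨ S = ⊤

omit [Finite E] [Finite V] [Nontrivial V] in
theorem IsIrred.of_pow {x : E} {k : ℕ} (h : IsIrred φ (x ^ k)) : IsIrred φ x := by
  intro S hS
  refine h S ?_
  induction k with
  | zero => intro v hv; rw [pow_zero, map_one]; exact hv
  | succ k _ =>
    intro v hv
    have : ∀ j, ∀ v ∈ S, φ (x ^ j) v ∈ S := by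
      intro j
      induction j with
      | zero => intro v hv; rw [pow_zero, map_one]; exact hv
      | succ j ih => intro v hv; rw [pow_succ, map_mul, MulAut.mul_apply]; exact ih _ (hS v hv)
    exact this _ v hv

variable {p n : ℕ} [hp : Fact p.Prime]

omit [Nontrivial V] in
theorem irreducible_of_primitive (hφ : Function.Injective φ) (hcard : Nat.card V = p ^ n)
    {r : ℕ} (hr : r.Prime) (hrdvd : r ∣ p ^ n - 1)
    (hprim : ∀ i, 1 ≤ i → i < n → ¬ r ∣ p ^ i - 1) {x : E} (hx : orderOf x = r) : IsIrred φ x := by
  intro S hS
  have hx' : (φ x) ^ r ^ 1 = 1 := by rw [pow_one, ← map_pow, ← hx, pow_orderOf_eq_one, map_one]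
  have hsmall : ∀ W : Subgroup V, Nat.card W ≡ 1 [MOD r] → W = ⊥ ∨ W = ⊤ := by
    intro W hW
    obtain ⟨i, hi, hWi⟩ := (Nat.dvd_prime_pow hp.out).mp (hcard ▸ W.card_subgroup_dvd_card)
    rcases Nat.eq_zero_or_pos i with rfl | hi0
    · exact Or.inl (Subgroup.eq_bot_of_card_eq _ (by rw [hWi, pow_zero]))
    rcases hi.lt_or_eq with hlt | rfl
    · refine absurd ?_ (hprim i hi0 hlt)
      rw [hWi] at hW
      exact (Nat.modEq_iff_dvd' (Nat.one_le_pow _ _ hp.out.pos)).mp hW.symm
    · exact Or.inr (W.card_eq_iff_eq_top.mp (by rw [hWi, hcard]))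
  have htop := OutCriteria.card_fix_modEq hr hx' (W := ⊤) fun v _ => mem_top _
  rw [top_inf_eq, Subgroup.card_top, hcard] at htop
  have h1 : p ^ n ≡ 1 [MOD r] := ((Nat.modEq_iff_dvd' (Nat.one_le_pow _ _ hp.out.pos)).mpr hrdvd).symm
  have hfix : OutCriteria.fix (φ x) = ⊥ := by
    refine (hsmall _ (htop.symm.trans h1)).resolve_right fun htopfix => ?_
    have : φ x = 1 := MulEquiv.ext fun v =>
      OutCriteria.mem_fix.mp (htopfix ▸ mem_top v : v ∈ OutCriteria.fix (φ x))
    rw [← map_one φ] at this
    rw [hφ this, orderOf_one] at hx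
    exact hr.one_lt.ne hx
  refine hsmall S ?_
  have := OutCriteria.card_fix_modEq hr hx' hS
  rwa [hfix, inf_bot_eq, Subgroup.card_bot] at this

theorem cyclic_centralizer (hφ : Function.Injective φ) {x : E} (hirr : IsIrred φ x) :
    IsCyclic (centralizer ({x} : Set E)) := by
  haveI := OutCriteria.centralizer_cyclic_of_irreducible ({φ x} : Set (MulAut V))
    fun S hS => hirr S fun v hv => hS _ rfl v hv
  let f : centralizer ({x} : Set E) →* centralizer ({φ x} : Set (MulAut V)) :=
    (φ.comp (centralizer ({x} : Set E)).subtype).codRestrict _ fun y =>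
      mem_centralizer_singleton_iff.mpr (by
        show φ y * φ x = φ x * φ y
        rw [← map_mul, ← map_mul, mem_centralizer_singleton_iff.mp y.2])
  exact isCyclic_of_injective f fun a b h => Subtype.ext (hφ (congrArg Subtype.val h))

omit [Finite E] in
/-- The conjugates of an irreducible element among its powers: at most `n`. -/
theorem card_conj_powers_le (hφ : Function.Injective φ) (hexp : ∀ v : V, v ^ p = 1)
    (hcard : Nat.card V = p ^ n) {x : E} (hirr : IsIrred φ x) (s : Finset E)
    (hs : ∀ y ∈ s, (∃ j : ℕ, y = x ^ j) ∧ IsConj x y) : s.card ≤ n := by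
  classical
  have hz : ∀ v : Additive V, p • v = 0 := fun v => hexp v.toMul
  letI : Module (ZMod p) (Additive V) := @AddCommGroup.zmodModule p (Additive V) _ hz
  haveI : Module.Finite (ZMod p) (Additive V) := Module.Finite.of_finite (R := ZMod p)
  haveI : Nontrivial (Additive V) := inferInstanceAs (Nontrivial V)
  have hfr : Module.finrank (ZMod p) (Additive V) = n := by
    have h : Nat.card (Additive V) = Nat.card (ZMod p) ^ Module.finrank (ZMod p) (Additive V) :=
      Module.natCard_eq_pow_finrank
    rw [Nat.card_congr Additive.toMul, hcard, Nat.card_zmod] at h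
    exact (Nat.pow_right_injective hp.out.two_le h).symm
  let lin : E →* Module.End (ZMod p) (Additive V) :=
    { toFun := fun e => (MonoidHom.toAdditive (φ e).toMonoidHom).toZModLinearMap p
      map_one' := LinearMap.ext fun v => by
        show Additive.ofMul (φ 1 v.toMul) = v
        rw [map_one]; rfl
      map_mul' := fun a b => LinearMap.ext fun v => by
        show Additive.ofMul (φ (a * b) v.toMul) = Additive.ofMul (φ a (φ b v.toMul))
        rw [map_mul]; rfl }
  have hlin : ∀ (e : E) (v : V), lin e (Additive.ofMul v) = Additive.ofMul (φ e v) := fun e v => rfl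
  set X := lin x with hX
  set K := Algebra.adjoin (ZMod p) ({X} : Set (Module.End (ZMod p) (Additive V)))
  have hcomm : ∀ a ∈ K, Commute a X := fun a ha => by
    induction ha using Algebra.adjoin_induction with
    | mem a ha => rw [Set.mem_singleton_iff.mp ha]
    | algebraMap c => exact Algebra.commute_algebraMap_left c X
    | add a b _ _ h1 h2 => exact h1.add_left h2
    | mul a b _ _ h1 h2 => exact h1.mul_left h2
  haveI : Nontrivial K := ⟨⟨0, 1, fun h => zero_ne_one (congrArg Subtype.val h)⟩⟩
  have hinj : ∀ a : K, a ≠ 0 → Function.Injective (a : Module.End (ZMod p) (Additive V)) := by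
    intro a ha
    let S : Subgroup V :=
      { carrier := {v | (a : Module.End (ZMod p) (Additive V)) (Additive.ofMul v) = 0}
        one_mem' := map_zero _
        mul_mem' := fun {v w} hv hw => by
          show (a : Module.End (ZMod p) (Additive V)) (Additive.ofMul v + Additive.ofMul w) = 0
          rw [map_add, hv, hw, add_zero]
        inv_mem' := fun {v} hv => by
          show (a : Module.End (ZMod p) (Additive V)) (- Additive.ofMul v) = 0
          rw [map_neg, hv, neg_zero] }
    rcases hirr S fun v hv => by
        show (a : Module.End (ZMod p) (Additive V)) (lin x (Additive.ofMul v)) = 0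
        rw [← LinearMap.comp_apply]
        show ((a : Module.End (ZMod p) (Additive V)) * X) (Additive.ofMul v) = 0
        rw [(hcomm a a.2).eq, Module.End.mul_apply, hv, map_zero] with h | h
    · refine (injective_iff_map_eq_zero _).mpr fun v hv => ?_
      have : v.toMul ∈ S := hv
      rw [h, mem_bot] at this
      exact this
    · exact absurd (Subtype.ext (LinearMap.ext fun v => (h ▸ mem_top v.toMul : v.toMul ∈ S))) ha
  haveI : NoZeroDivisors K := ⟨fun {a b} hab => by
    by_contra hne
    push Not at hne
    refine hne.2 (Subtype.ext (LinearMap.ext fun v => hinj a hne.1 ?_))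
    show ((a * b : K) : Module.End (ZMod p) (Additive V)) v = _
    rw [hab]
    exact (map_zero (a : Module.End (ZMod p) (Additive V))).symm⟩
  haveI : IsDomain K := { NoZeroDivisors.to_isDomain K with }
  letI : CommRing K := { (inferInstance : Ring K) with
    mul_comm := fun a b => Subtype.ext (by
      have : ∀ c ∈ K, Commute (a : Module.End (ZMod p) (Additive V)) c := fun c hc => by
        induction hc using Algebra.adjoin_induction with
        | mem c hc => rw [Set.mem_singleton_iff.mp hc]; exact hcomm a a.2
        | algebraMap c => exact (Algebra.commute_algebraMap_left c _).symm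
        | add a b _ _ h1 h2 => exact h1.add_right h2
        | mul a b _ _ h1 h2 => exact h1.mul_right h2
      exact this b b.2) }
  set f := minpoly (ZMod p) X
  have hf0 : f ≠ 0 := minpoly.ne_zero (IsIntegral.of_finite (ZMod p) X)
  have hdeg : f.natDegree ≤ n := by
    rw [← hfr, ← LinearMap.charpoly_natDegree X]
    exact Polynomial.natDegree_le_of_dvd (LinearMap.minpoly_dvd_charpoly X) X.charpoly_monic.ne_zero
  have hroot : ∀ y ∈ s, Polynomial.aeval (lin y) f = 0 := by
    intro y hy
    obtain ⟨t, ht⟩ := isConj_iff.mp (hs y hy).2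
    let c : Module.End (ZMod p) (Additive V) →ₐ[ZMod p] Module.End (ZMod p) (Additive V) :=
      AlgHom.ofLinearMap ((LinearMap.mulRight (ZMod p) (lin t⁻¹)).comp
          (LinearMap.mulLeft (ZMod p) (lin t)))
        (by simp [← map_mul])
        (fun a b => by
          simp only [LinearMap.comp_apply, LinearMap.mulLeft_apply, LinearMap.mulRight_apply]
          have : lin t⁻¹ * lin t = 1 := by rw [← map_mul, inv_mul_cancel, map_one]
          simp only [mul_assoc]
          rw [← mul_assoc (lin t⁻¹) (lin t), this, one_mul])
    have hc : c X = lin y := by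
      show lin t * lin x * lin t⁻¹ = lin y
      rw [← map_mul, ← map_mul, ht]
    rw [← hc, Polynomial.aeval_algHom_apply, minpoly.aeval, map_zero]
  have hmem : ∀ y ∈ s, lin y ∈ K := fun y hy => by
    obtain ⟨j, rfl⟩ := (hs y hy).1
    rw [map_pow]
    exact pow_mem (Algebra.self_mem_adjoin_singleton _ _) j
  let g : {y // y ∈ s} → K := fun y => ⟨lin y, hmem y y.2⟩
  have hg : Function.Injective g := fun a b h => Subtype.ext (hφ (MulEquiv.ext fun v =>
    Additive.ofMul.injective (by
      rw [← hlin, ← hlin]
      exact LinearMap.congr_fun (congrArg Subtype.val h) _)))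
  have hle : (Finset.univ.image g).card ≤ (f.map (algebraMap (ZMod p) K)).natDegree := by
    refine Polynomial.card_le_degree_of_subset_roots fun a ha => ?_
    simp only [Finset.image_val, Multiset.mem_dedup, Multiset.mem_map] at ha
    obtain ⟨y, -, rfl⟩ := ha
    rw [Polynomial.mem_roots (Polynomial.map_ne_zero hf0), Polynomial.IsRoot.def,
      Polynomial.eval_map, ← Polynomial.aeval_def]
    refine Subtype.ext ?_
    rw [← Subalgebra.coe_val, ← Polynomial.aeval_algHom_apply]
    exact hroot y y.2
  rw [Finset.card_image_of_injective _ hg, Finset.card_univ, Fintype.card_coe,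
    Polynomial.natDegree_map] at hle
  exact hle.trans hdeg

end Cfsg.Agent.BlockThree
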