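import Cfsg.Agent.Lib.BlockThree.Count

/-!
# Passing to the inertia group

* `exists_bij`: the characters over `θ` in its inertia group and in `G` correspond.
-/

set_option autoImplicit false
set_option linter.style.haveILetI false
set_option linter.unusedSectionVars false

namespace Cfsg.Agent.BlockThree

open Cfsg

variable {G : Type*} [Group G] [Fintype G] (N : Subgroup G) [hN : N.Normal] [Fintype N]
  (θ : IrrCharacter N)

theorem le_inertia' : N ≤ CharApp.inertia N (θ : N → ℂ) :=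
  CharApp.le_inertia N (Char.IsIrrCharacter.isClassFunction θ.2)

/-- `θ` on `N` seen inside its inertia group. -/
noncomputable def inInertia : IrrCharacter (N.subgroupOf (CharApp.inertia N (θ : N → ℂ))) :=
  BrauerPairs.pullIrr (Subgroup.subgroupOfEquivOfLe (le_inertia' N θ)) θ

theorem inInertia_invariant (g : CharApp.inertia N (θ : N → ℂ))
    (n : N.subgroupOf (CharApp.inertia N (θ : N → ℂ))) :
    (inInertia N θ : N.subgroupOf (CharApp.inertia N (θ : N → ℂ)) → ℂ)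
        ⟨g * n * g⁻¹, (hN.subgroupOf _).conj_mem n n.2 g⟩ = (inInertia N θ : N.subgroupOf (CharApp.inertia N (θ : N → ℂ)) → ℂ) n :=
  (CharApp.mem_inertia_iff N).mp g.2 ⟨((n : CharApp.inertia N (θ : N → ℂ)) : G), n.2⟩

theorem exists_bij [Fintype (CharApp.inertia N (θ : N → ℂ))]
    [Fintype (N.subgroupOf (CharApp.inertia N (θ : N → ℂ)))] :
    ∃ F : Over (N.subgroupOf (CharApp.inertia N (θ : N → ℂ))) (inInertia N θ) → Over N θ,
      Function.Bijective F := by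
  classical
  have hNT := le_inertia' N θ
  set e := Subgroup.subgroupOfEquivOfLe hNT
  have hin : ∀ ψ : (CharApp.inertia N (θ : N → ℂ)) → ℂ, classInner (fun n : N.subgroupOf (CharApp.inertia N (θ : N → ℂ)) => ψ n) (inInertia N θ : N.subgroupOf (CharApp.inertia N (θ : N → ℂ)) → ℂ) =
      classInner (fun n : N => ψ ⟨(n : G), hNT n.2⟩) (θ : N → ℂ) := fun ψ => by
    rw [classInner, classInner, Nat.card_congr e.toEquiv]
    congr 1
    exact Fintype.sum_equiv e.toEquiv _ _ fun n => rfl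
  refine ⟨fun ψ => ⟨⟨indFun (CharApp.inertia N (θ : N → ℂ)) ((ψ : IrrCharacter (CharApp.inertia N (θ : N → ℂ))) : (CharApp.inertia N (θ : N → ℂ)) → ℂ),
    (CharApp.clifford_correspondence N θ.2 ψ.1.2 (by rw [← hin]; exact (mem_over _).mp ψ.2)).1⟩, ?_⟩, ?_, ?_⟩
  · show classInner (fun n : N => indFun (CharApp.inertia N (θ : N → ℂ)) ((ψ : IrrCharacter (CharApp.inertia N (θ : N → ℂ))) : (CharApp.inertia N (θ : N → ℂ)) → ℂ) n) (θ : N → ℂ) ≠ 0
    rw [(CharApp.clifford_correspondence N θ.2 ψ.1.2 (by rw [← hin]; exact (mem_over _).mp ψ.2)).2.1, ← hin]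
    exact (mem_over _).mp ψ.2
  · intro ψ ψ' h
    exact Subtype.ext (Subtype.ext ((CharApp.clifford_correspondence N θ.2 ψ'.1.2
      (by rw [← hin]; exact (mem_over _).mp ψ'.2)).2.2 _ ψ.1.2 (by rw [← hin]; exact ψ.2)
      (congrArg (fun χ : Over N θ => ((χ : IrrCharacter G) : G → ℂ)) h)))
  · intro χ
    obtain ⟨ψ, hψ, hind, hmult, -⟩ := CharApp.exists_correspondent N θ.2 χ.1.2 χ.2
    refine ⟨⟨⟨ψ, hψ⟩, ?_⟩, Subtype.ext (Subtype.ext hind)⟩
    show classInner (fun n : N.subgroupOf (CharApp.inertia N (θ : N → ℂ)) => ψ n) (inInertia N θ : N.subgroupOf (CharApp.inertia N (θ : N → ℂ)) → ℂ) ≠ 0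
    rw [hin, hmult]
    exact χ.2

/-- One character over `θ` in `G` gives one in the inertia group. -/
theorem one_in_inertia [Fintype (CharApp.inertia N (θ : N → ℂ))]
    [Fintype (N.subgroupOf (CharApp.inertia N (θ : N → ℂ)))]
    {χ₀ : IrrCharacter G} (hone : ∀ χ ∈ Over N θ, χ = χ₀) :
    ∃ ψ₀, ∀ ψ ∈ Over (N.subgroupOf (CharApp.inertia N (θ : N → ℂ))) (inInertia N θ), ψ = ψ₀ := by
  obtain ⟨F, hF⟩ := exists_bij N θ
  obtain ⟨ψ₀, hψ₀⟩ := BlocksNormal.exists_over _ (inInertia N θ)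
  exact ⟨ψ₀, fun ψ hψ => congrArg Subtype.val (hF.1 (a₁ := ⟨ψ, hψ⟩) (a₂ := ⟨ψ₀, hψ₀⟩)
    (Subtype.ext ((hone _ (F ⟨ψ, hψ⟩).2).trans (hone _ (F ⟨ψ₀, hψ₀⟩).2).symm)))⟩

/-- Two characters over `θ` in `G` give two in the inertia group. -/
theorem two_in_inertia [Fintype (CharApp.inertia N (θ : N → ℂ))]
    [Fintype (N.subgroupOf (CharApp.inertia N (θ : N → ℂ)))]
    {χ₁ χ₂ : IrrCharacter G} (hne : χ₁ ≠ χ₂) (h₁ : χ₁ ∈ Over N θ) (h₂ : χ₂ ∈ Over N θ)
    (htwo : ∀ χ ∈ Over N θ, χ = χ₁ ∨ χ = χ₂) :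
    ∃ ψ₁ ψ₂, ψ₁ ≠ ψ₂ ∧
      ψ₁ ∈ Over (N.subgroupOf (CharApp.inertia N (θ : N → ℂ))) (inInertia N θ) ∧
      ψ₂ ∈ Over (N.subgroupOf (CharApp.inertia N (θ : N → ℂ))) (inInertia N θ) ∧
      ∀ ψ ∈ Over (N.subgroupOf (CharApp.inertia N (θ : N → ℂ))) (inInertia N θ), ψ = ψ₁ ∨ ψ = ψ₂ := by
  obtain ⟨F, hF⟩ := exists_bij N θ
  obtain ⟨a, ha⟩ := hF.2 ⟨χ₁, h₁⟩
  obtain ⟨b, hb⟩ := hF.2 ⟨χ₂, h₂⟩
  refine ⟨a.1, b.1, fun h => hne ?_, a.2, b.2, fun ψ hψ => ?_⟩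
  · rw [Subtype.ext h, hb] at ha
    exact (congrArg Subtype.val ha).symm
  · rcases htwo _ (F ⟨ψ, hψ⟩).2 with h | h
    · exact Or.inl (congrArg Subtype.val (hF.1 (a₁ := ⟨ψ, hψ⟩) ((Subtype.ext h).trans ha.symm)))
    · exact Or.inr (congrArg Subtype.val (hF.1 (a₁ := ⟨ψ, hψ⟩) ((Subtype.ext h).trans hb.symm)))

end Cfsg.Agent.BlockThree
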