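import Cfsg.Agent.Lib.BlockThree.Central
import Cfsg.Agent.Lib.BlockThree.Transfer
import Cfsg.Agent.Lib.BlockThree.Rank
import Cfsg.Agent.Lib.BlockThree.EndgameBig
import Cfsg.Agent.Lib.SecondMain.Second

/-!
# Blocks with three characters and a normal abelian defect group

* `card_le_three`: the defect group has order at most three.
-/

set_option autoImplicit false
set_option linter.style.haveILetI false
set_option linter.unusedSectionVars false

namespace Cfsg.Agent.BlockThree

open Cfsg Cfsg.Agent.Blocks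

variable {G : Type*} [Group G] [Fintype G] {p : ℕ} [hp : Fact p.Prime] {M : Ideal AlgInt}

/-- A character over `η` is trivial on `A` only if `η` is. -/
theorem scales_one_of_over {C : Subgroup G} [Fintype C] {A : Subgroup G}
    {η : IrrCharacter C} {l : (A.subgroupOf C) →* ℂˣ} (hl : Scales η l) {χ : IrrCharacter G}
    (hχ : χ ∈ Over C η) (htriv : ∀ a ∈ A, (χ : G → ℂ) a = (χ : G → ℂ) 1) : l = 1 := by
  refine MonoidHom.ext fun a => Units.ext ?_
  rw [MonoidHom.one_apply, Units.val_one]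
  set c := classInner (fun n : C => (χ : G → ℂ) n) (η : C → ℂ)
  have hc : c = (starRingEnd ℂ) (l a : ℂ) * c := by
    simp only [c, classInner]
    conv_rhs => rw [mul_left_comm, Finset.mul_sum]
    congr 1
    refine (Fintype.sum_equiv (Equiv.mulLeft (a : C)) _ _ fun n => ?_).symm
    rw [Equiv.coe_mulLeft, hl a n, map_mul,
      show (((a : C) * n : C) : G) = ((a : C) : G) * (n : G) from rfl,
      TwoClassChar.ker_mul χ.2 (htriv ((a : C) : G) (Subgroup.mem_subgroupOf.mp a.2))]
    ring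
  have h1 : (starRingEnd ℂ) (l a : ℂ) = 1 := (mul_eq_right₀ hχ).mp hc.symm
  simpa using congrArg (starRingEnd ℂ) h1

/-- A block with at most three members and normal abelian defect group `A` has `|A| ≤ 3`. -/
theorem card_le_three (hM : IsPModular p M) {B : Set (IrrCharacter G)} (hB : IsPBlock M B)
    {A : Subgroup G} [A.Normal] (hab : ∀ a ∈ A, ∀ b ∈ A, a * b = b * a)
    (hD : IsDefectGroup p M B A) (h3 : Nat.card B ≤ 3) : Nat.card A ≤ 3 := by
  classical
  have hAp := isPGroup_defectGroup hM hD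
  rcases eq_or_ne A ⊥ with rfl | hAne
  · rw [Subgroup.card_bot]; norm_num
  set C := Subgroup.centralizer (A : Set G) with hC
  haveI hCn : C.Normal := Subgroup.normal_centralizer
  haveI := Fintype.ofFinite C
  have hAC : A ≤ C := fun a ha => Subgroup.mem_centralizer_iff.mpr fun b hb => hab b hb a ha
  have hA'Z : A.subgroupOf C ≤ Subgroup.center C := fun a ha => Subgroup.mem_center_iff.mpr fun g =>
    Subtype.ext (Subgroup.mem_centralizer_iff.mp g.2 (a : G) ha).symm
  have hA'p : IsPGroup p (A.subgroupOf C) := hAp.of_equiv (Subgroup.subgroupOfEquivOfLe hAC).symm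
  -- the block of `C` below `B`
  obtain ⟨χ₀, hχ₀, hχ₀A⟩ := BlocksNormal.exists_mem_trivOn hM hB A hAp
  obtain ⟨ψ₀, hψ₀⟩ := BlocksNormal.exists_constituent C χ₀
  set b := blockOf M (ψ₀ : C → ℂ) with hbdef
  have hb : IsPBlock M b := ⟨ψ₀, rfl⟩
  have hind : IsInducedBlock M C b B := BlocksNormal.isInducedBlock_of_cover hM C hAp le_rfl hb hB
    ⟨χ₀, hχ₀, ψ₀, mem_blockOf_self hM ψ₀, hψ₀⟩
  have hover : ∀ η ∈ b, ∀ χ ∈ Over C η, χ ∈ B := fun η hη χ hχ => by
    have h := BlocksNormal.isInducedBlock_of_cover hM C hAp le_rfl hb (isPBlock_blockOf hM χ)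
      ⟨χ, mem_blockOf_self hM χ, η, hη, hχ⟩
    rw [SecondMain.induced_unique hM hind h]
    exact mem_blockOf_self hM χ
  have hbD : IsDefectGroup p M b (A.subgroupOf C) :=
    BlocksNormal.isDefectGroup_of_induced hM hAC (by rw [Subgroup.normalizer_eq_top]; exact le_top) hind hD
  obtain ⟨hscale, hinj, hsurj⟩ := central_members hM hA'p hA'Z hb hbD
  obtain ⟨θ, hθb, hθl⟩ := hsurj 1
  have hθuniq : ∀ η ∈ b, Scales η (1 : (A.subgroupOf C) →* ℂˣ) → η = θ := fun η hη h => hinj η hη θ hθb 1 h hθl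
  -- conjugation
  have hconjScales : ∀ (g : G) (η : IrrCharacter C) (l : (A.subgroupOf C) →* ℂˣ), Scales η l →
      ∀ (a a' : A.subgroupOf C), ((a' : C) : G) = g⁻¹ * ((a : C) : G) * g → ∀ n : C,
        (BlocksNormal.conjIrr C g η : C → ℂ) ((a : C) * n) =
          (l a' : ℂ) * (BlocksNormal.conjIrr C g η : C → ℂ) n := by
    intro g η l hl a a' haa n
    show CliffordChar.conjFun C g (η : C → ℂ) ((a : C) * n) = _ * CliffordChar.conjFun C g (η : C → ℂ) n
    rw [CliffordChar.conjFun_apply, CliffordChar.conjFun_apply, ← hl a']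
    refine congrArg _ (Subtype.ext ?_)
    push_cast
    rw [haa]
    group
  have hconjmem : ∀ (g : G) (a : A.subgroupOf C), ∃ a' : A.subgroupOf C,
      ((a' : C) : G) = g⁻¹ * ((a : C) : G) * g := fun g a => by
    have hmem : g⁻¹ * ((a : C) : G) * g ∈ A := by
      simpa using (inferInstance : A.Normal).conj_mem _ a.2 g⁻¹
    exact ⟨⟨⟨_, hAC hmem⟩, hmem⟩, rfl⟩
  -- every member of `B` lies over a member of `b`
  have hcover : ∀ χ ∈ B, ∃ η ∈ b, χ ∈ Over C η := fun χ hχ => by
    obtain ⟨ψ, hψ⟩ := BlocksNormal.exists_constituent C χ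
    obtain ⟨g, hg⟩ := BlocksNormal.exists_conjIrr_mem_of_sameBlock C hM hb
      (sameBlock_of_mem hM hB hχ₀ hχ) (mem_blockOf_self hM ψ₀) hψ₀ hψ
    refine ⟨_, hg, ?_⟩
    show classInner _ _ ≠ 0
    rw [BlocksNormal.constituent_conjIrr]
    exact hψ
  have htrivθ : ∀ χ ∈ B, (∀ a ∈ A, (χ : G → ℂ) a = (χ : G → ℂ) 1) → χ ∈ Over C θ := fun χ hχ hA => by
    obtain ⟨η, hη, hov⟩ := hcover χ hχ
    obtain ⟨l, hl⟩ := hscale η hη
    have := scales_one_of_over hl hov hA
    rw [this] at hl
    rwa [← hθuniq η hη hl]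
  -- conjugation of members of `b` linking a common character
  have hlink : ∀ η ∈ b, ∀ η' ∈ b, ∀ χ, χ ∈ Over C η → χ ∈ Over C η' →
      ∃ g ∈ CharApp.inertia C (θ : C → ℂ), BlocksNormal.conjIrr C g η = η' := by
    intro η hη η' hη' χ h h'
    obtain ⟨g, hg⟩ := CliffordChar.constituents_conjugate C χ.2 η.2 η'.2 h h'
    have hge : BlocksNormal.conjIrr C g η = η' := Subtype.ext hg
    refine ⟨g, ?_, hge⟩
    have hgb : BlocksNormal.conjIrr C g θ ∈ b := by
      have h1 := BlocksNormal.sameBlock_conjIrr C g (sameBlock_of_mem hM hb hη hθb)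
      rw [hge] at h1
      exact sameBlock_trans hM (sameBlock_of_mem hM hb (mem_blockOf_self hM ψ₀) hη') h1
    have hsc : Scales (BlocksNormal.conjIrr C g θ) (1 : (A.subgroupOf C) →* ℂˣ) := fun a n => by
      obtain ⟨a', ha'⟩ := hconjmem g a
      rw [hconjScales g θ 1 hθl a a' ha' n]
      rfl
    exact congrArg Subtype.val (hθuniq _ hgb hsc)
  have hθne : ∀ η ∈ b, ∀ l : (A.subgroupOf C) →* ℂˣ, Scales η l → l ≠ 1 → ∀ χ, χ ∈ Over C η →
      χ ∉ Over C θ := by
    intro η hη l hl hl1 χ h h'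
    obtain ⟨g, hg, hge⟩ := hlink θ hθb η hη χ h' h
    rw [show BlocksNormal.conjIrr C g θ = θ from Subtype.ext hg] at hge
    exact hl1 (hl.unique (hge ▸ hθl))
  by_cases hone : ∃ χ₁, ∀ χ ∈ Over C θ, χ = χ₁
  · obtain ⟨χ₁, hχ₁⟩ := hone
    exact card_defectGroup_le_three hM hB hD
      (blockRank_eq_one hM hB hAp hab fun χ hχ hA => hχ₁ χ (htrivθ χ hχ hA)) h3
  push Not at hone
  obtain ⟨χ₁, h₁⟩ := BlocksNormal.exists_over C θ
  obtain ⟨χ₂, h₂, hne⟩ := hone χ₁
  -- the group acting on the linear characters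
  set V := (A.subgroupOf C) →* ℂˣ
  letI : CommGroup V := inferInstance
  haveI hVfin : Finite V := Nat.finite_of_card_ne_zero (by
    rw [card_hom_units fun a a' => Subtype.ext (Subgroup.mem_center_iff.mp (hA'Z a'.2) (a : C))]
    exact Nat.card_pos.ne')
  have hVcard : Nat.card V = Nat.card A := by
    rw [card_hom_units fun a a' => Subtype.ext (Subgroup.mem_center_iff.mp (hA'Z a'.2) (a : C))]
    exact Nat.card_congr (Subgroup.subgroupOfEquivOfLe hAC).toEquiv
  haveI : Nontrivial V := Finite.one_lt_card_iff_nontrivial.mp (by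
    rw [hVcard]; exact (Subgroup.one_lt_card_iff_ne_bot A).mpr hAne)
  obtain ⟨l₀, hl₀⟩ := exists_ne (1 : V)
  obtain ⟨η₀, hη₀, hη₀l⟩ := hsurj l₀
  obtain ⟨χ₃, h₃⟩ := BlocksNormal.exists_over C η₀
  have h31 : χ₃ ≠ χ₁ := fun h => hθne η₀ hη₀ l₀ hη₀l hl₀ χ₃ h₃ (h ▸ h₁)
  have h32 : χ₃ ≠ χ₂ := fun h => hθne η₀ hη₀ l₀ hη₀l hl₀ χ₃ h₃ (h ▸ h₂)
  have hB3 : ∀ χ ∈ B, χ = χ₁ ∨ χ = χ₂ ∨ χ = χ₃ := by
    have hsub : ({χ₁, χ₂, χ₃} : Set (IrrCharacter G)) ⊆ B := by
      rintro χ (rfl | rfl | rfl)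
      exacts [hover θ hθb _ h₁, hover θ hθb _ h₂, hover η₀ hη₀ _ h₃]
    have heq : ({χ₁, χ₂, χ₃} : Set (IrrCharacter G)) = B := by
      refine Set.eq_of_subset_of_ncard_le hsub ?_ (Set.toFinite _)
      rw [← Nat.card_coe_set_eq B]
      refine h3.trans (le_of_eq ?_)
      rw [Set.ncard_eq_three.mpr ⟨χ₁, χ₂, χ₃, Ne.symm hne, Ne.symm h31, Ne.symm h32, rfl⟩]
    intro χ hχ
    rw [← heq] at hχ
    exact hχ
  have htwo : ∀ χ ∈ Over C θ, χ = χ₁ ∨ χ = χ₂ := fun χ hχ => by
    rcases hB3 χ (hover θ hθb χ hχ) with h | h | h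
    · exact Or.inl h
    · exact Or.inr h
    · exact absurd hχ (h ▸ hθne η₀ hη₀ l₀ hη₀l hl₀ χ₃ h₃)
  have honeη : ∀ η ∈ b, ∀ l, Scales η l → l ≠ 1 → ∀ χ ∈ Over C η, χ = χ₃ := fun η hη l hl hl1 χ hχ => by
    rcases hB3 χ (hover η hη χ hχ) with h | h | h
    · exact absurd (h ▸ h₁) (hθne η hη l hl hl1 χ hχ)
    · exact absurd (h ▸ h₂) (hθne η hη l hl hl1 χ hχ)
    · exact h
  -- the inertia group and its action
  have hCT : C ≤ CharApp.inertia C (θ : C → ℂ) := le_inertia' C θ
  haveI := Fintype.ofFinite (CharApp.inertia C (θ : C → ℂ))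
  haveI := Fintype.ofFinite (C.subgroupOf (CharApp.inertia C (θ : C → ℂ)))
  haveI : (A.subgroupOf C).Normal := Subgroup.Normal.subgroupOf inferInstance C
  let cj : G →* MulAut (A.subgroupOf C) :=
    { toFun := fun g =>
        { toFun := fun a => ⟨⟨g * ((a : C) : G) * g⁻¹, hCn.conj_mem _ (a : C).2 g⟩,
            (inferInstance : A.Normal).conj_mem _ a.2 g⟩
          invFun := fun a => ⟨⟨g⁻¹ * ((a : C) : G) * g⁻¹⁻¹, hCn.conj_mem _ (a : C).2 g⁻¹⟩,
            (inferInstance : A.Normal).conj_mem _ a.2 g⁻¹⟩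
          left_inv := fun a => Subtype.ext (Subtype.ext (by simp [mul_assoc]))
          right_inv := fun a => Subtype.ext (Subtype.ext (by simp [mul_assoc]))
          map_mul' := fun a a' => Subtype.ext (Subtype.ext (by simp [mul_assoc])) }
      map_one' := MulEquiv.ext fun a => Subtype.ext (Subtype.ext (by simp))
      map_mul' := fun g g' => MulEquiv.ext fun a => Subtype.ext (Subtype.ext (by simp [mul_assoc])) }
  have hcj : ∀ g a, (((cj g a : A.subgroupOf C) : C) : G) = g * ((a : C) : G) * g⁻¹ := fun g a => rfl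
  let act : G →* MulAut V :=
    { toFun := fun g =>
        { toFun := fun l => l.comp (cj g⁻¹).toMonoidHom
          invFun := fun l => l.comp (cj g).toMonoidHom
          left_inv := fun l => MonoidHom.ext fun a => congrArg l (by
            show cj g⁻¹ (cj g a) = a
            rw [← MulAut.mul_apply, ← map_mul, inv_mul_cancel, map_one, MulAut.one_apply])
          right_inv := fun l => MonoidHom.ext fun a => congrArg l (by
            show cj g (cj g⁻¹ a) = a
            rw [← MulAut.mul_apply, ← map_mul, mul_inv_cancel, map_one, MulAut.one_apply])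
          map_mul' := fun l l' => rfl }
      map_one' := MulEquiv.ext fun l => MonoidHom.ext fun a => congrArg l (by
        show cj (1 : G)⁻¹ a = a
        rw [inv_one, map_one, MulAut.one_apply])
      map_mul' := fun g g' => MulEquiv.ext fun l => MonoidHom.ext fun a => congrArg l (by
        show cj (g * g')⁻¹ a = cj g'⁻¹ (cj g⁻¹ a)
        rw [mul_inv_rev, map_mul, MulAut.mul_apply]) }
  have hact : ∀ g (l : V) a, (act g l) a = l (cj g⁻¹ a) := fun g l a => rfl
  have hactScales : ∀ (g : G) η l, Scales η l → Scales (BlocksNormal.conjIrr C g η) (act g l) :=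
    fun g η l hl a n => hconjScales g η l hl a (cj g⁻¹ a) (by rw [hcj, inv_inv]) n
  have hinb : ∀ g ∈ CharApp.inertia C (θ : C → ℂ), ∀ η ∈ b, BlocksNormal.conjIrr C g η ∈ b := by
    intro g hg η hη
    have h1 := BlocksNormal.sameBlock_conjIrr C g (sameBlock_of_mem hM hb hθb hη)
    rw [show BlocksNormal.conjIrr C g θ = θ from Subtype.ext hg] at h1
    exact sameBlock_trans hM (sameBlock_of_mem hM hb (mem_blockOf_self hM ψ₀) hθb) h1
  haveI : (C.subgroupOf (CharApp.inertia C (θ : C → ℂ))).Normal := hCn.subgroupOf _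
  let φ : (CharApp.inertia C (θ : C → ℂ)) ⧸ C.subgroupOf (CharApp.inertia C (θ : C → ℂ)) →* MulAut V :=
    QuotientGroup.lift _ (act.comp (CharApp.inertia C (θ : C → ℂ)).subtype) fun g hg => by
      refine MonoidHom.mem_ker.mpr (MulEquiv.ext fun l => MonoidHom.ext fun a => ?_)
      rw [MonoidHom.comp_apply, hact, MulAut.one_apply]
      refine congrArg l (Subtype.ext (Subtype.ext ?_))
      rw [hcj, inv_inv, Subgroup.coe_subtype]
      have := Subgroup.mem_centralizer_iff.mp (Subgroup.mem_subgroupOf.mp hg) ((a : C) : G) a.2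
      rw [mul_assoc, this, inv_mul_cancel_left]
  have hφmk : ∀ t : CharApp.inertia C (θ : C → ℂ),
      φ (t : (CharApp.inertia C (θ : C → ℂ)) ⧸ C.subgroupOf (CharApp.inertia C (θ : C → ℂ))) =
        act (t : G) := fun t => rfl
  -- one character over a nontrivial member
  have hstabdata : ∀ l : V, l ≠ 1 → (∃ s, Nat.card (FPF.stabOf φ l) = s ^ 2) ∧
      (IsCyclic (FPF.stabOf φ l) → FPF.stabOf φ l = ⊥) := by
    intro l hl
    obtain ⟨η, hη, hηl⟩ := hsurj l
    haveI := Fintype.ofFinite (CharApp.inertia C (η : C → ℂ))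
    haveI := Fintype.ofFinite (C.subgroupOf (CharApp.inertia C (η : C → ℂ)))
    haveI : (C.subgroupOf (CharApp.inertia C (η : C → ℂ))).Normal := hCn.subgroupOf _
    obtain ⟨ψ, hψ⟩ := one_in_inertia C η (honeη η hη l hηl hl)
    have hsub : CharApp.inertia C (η : C → ℂ) ≤ CharApp.inertia C (θ : C → ℂ) := fun g hg => by
      obtain ⟨g', hg', he⟩ : ∃ g' : G, g' = g ∧ BlocksNormal.conjIrr C g' η = η := ⟨g, rfl, Subtype.ext hg⟩
      subst hg'
      have h1 := BlocksNormal.sameBlock_conjIrr C g' (sameBlock_of_mem hM hb hη hθb)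
      rw [he] at h1
      have hgb : BlocksNormal.conjIrr C g' θ ∈ b :=
        sameBlock_trans hM (sameBlock_of_mem hM hb (mem_blockOf_self hM ψ₀) hη) h1
      have hsc : Scales (BlocksNormal.conjIrr C g' θ) (1 : (A.subgroupOf C) →* ℂˣ) := fun a n => by
        obtain ⟨a', ha'⟩ := hconjmem g' a
        rw [hconjScales g' θ 1 hθl a a' ha' n]
        rfl
      exact congrArg Subtype.val (hθuniq _ hgb hsc)
    let π : CharApp.inertia C (η : C → ℂ) →* FPF.stabOf φ l :=
      ((QuotientGroup.mk' _).comp (Subgroup.inclusion hsub)).codRestrict _ fun g => by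
        show φ _ l = l
        rw [MonoidHom.comp_apply, QuotientGroup.mk'_apply, hφmk]
        have h1 := hactScales (g : G) η l hηl
        rw [show BlocksNormal.conjIrr C (g : G) η = η from Subtype.ext g.2] at h1
        exact h1.unique hηl
    have hπs : Function.Surjective π := fun z => by
      obtain ⟨t, ht⟩ := QuotientGroup.mk_surjective (z : ((CharApp.inertia C (θ : C → ℂ)) ⧸ C.subgroupOf (CharApp.inertia C (θ : C → ℂ))))
      have hz : φ (z : ((CharApp.inertia C (θ : C → ℂ)) ⧸ C.subgroupOf (CharApp.inertia C (θ : C → ℂ)))) l = l := z.2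
      rw [← ht, hφmk] at hz
      have h1 := hactScales (t : G) η l hηl
      rw [hz] at h1
      have he : BlocksNormal.conjIrr C (t : G) η = η := hinj _ (hinb _ t.2 η hη) η hη l h1 hηl
      exact ⟨⟨(t : G), congrArg Subtype.val he⟩, Subtype.ext ht⟩
    have hker : π.ker = C.subgroupOf (CharApp.inertia C (η : C → ℂ)) := by
      ext g
      rw [MonoidHom.mem_ker, Subtype.ext_iff, Subgroup.mem_subgroupOf]
      show ((Subgroup.inclusion hsub g : CharApp.inertia C (θ : C → ℂ)) : ((CharApp.inertia C (θ : C → ℂ)) ⧸ C.subgroupOf (CharApp.inertia C (θ : C → ℂ)))) = 1 ↔ _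
      rw [QuotientGroup.eq_one_iff, Subgroup.mem_subgroupOf]
      rfl
    let e := (QuotientGroup.quotientMulEquivOfEq hker.symm).trans
      (QuotientGroup.quotientKerEquivOfSurjective π hπs)
    have hcard : (C.subgroupOf (CharApp.inertia C (η : C → ℂ))).index = Nat.card (FPF.stabOf φ l) :=
      Nat.card_congr e.toEquiv
    refine ⟨?_, fun hcyc => ?_⟩
    · obtain ⟨s, hs⟩ := index_eq_sq_of_one _ (inInertia C η) (inInertia_invariant C η) hψ
      exact ⟨s, hcard ▸ hs⟩
    · haveI := hcyc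
      haveI : IsCyclic ((CharApp.inertia C (η : C → ℂ)) ⧸ C.subgroupOf (CharApp.inertia C (η : C → ℂ))) :=
        isCyclic_of_surjective e.symm e.symm.surjective
      refine Subgroup.eq_bot_of_card_eq _ (hcard ▸ Subgroup.index_eq_one.mpr (eq_top_iff.mpr fun y _ => ?_))
      by_contra hy
      exact not_cyclic_of_one _ (inInertia C η) (inInertia_invariant C η) hψ hy (Subgroup.isCyclic _)
  obtain ⟨ψ₁, ψ₂, hψne, hψ₁, hψ₂, hψall⟩ := two_in_inertia C θ (Ne.symm hne) h₁ h₂ htwo
  have hcfg : Config φ p := by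
    refine ⟨(injective_iff_map_eq_one φ).mpr fun z hz => ?_, ?_, ?_, fun l l' hl hl' => ?_,
      fun x y hx hy hcx hcy => ?_, fun l hl => (hstabdata l hl).1, fun l hl => (hstabdata l hl).2, ?_⟩
    · obtain ⟨t, rfl⟩ := QuotientGroup.mk_surjective z
      rw [QuotientGroup.eq_one_iff, Subgroup.mem_subgroupOf]
      refine Subgroup.mem_centralizer_iff.mpr fun a ha => ?_
      set a' : A.subgroupOf C := ⟨⟨a, hAC ha⟩, ha⟩
      have hfix : cj (t : G)⁻¹ a' = a' := by
        rw [← div_eq_one]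
        refine eq_one_of_forall_hom (fun x y => Subtype.ext
          (Subgroup.mem_center_iff.mp (hA'Z y.2) (x : C))) fun l => ?_
        rw [map_div, div_eq_one]
        have := DFunLike.congr_fun (DFunLike.congr_fun hz l) a'
        rwa [hφmk, hact, MulAut.one_apply] at this
      have h := congrArg (fun z : A.subgroupOf C => ((z : C) : G)) hfix
      simp only [hcj, inv_inv, a'] at h
      rw [mul_assoc, inv_mul_eq_iff_eq_mul] at h
      exact h
    · obtain ⟨n, hn⟩ := hAp.exists_card_eq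
      exact IsPGroup.of_card (hVcard.trans hn)
    · obtain ⟨T, hCT', hIT, hTv⟩ := BlocksNormal.exists_inertial_bound hM hB hD hAC le_rfl
        (hover θ hθb _ h₁) h₁
      intro hdvd
      have h1 : (C.relIndex T) * T.index = C.index := Subgroup.relIndex_mul_index hCT'
      have h2 : C.relIndex (CharApp.inertia C (θ : C → ℂ)) ∣ C.relIndex T :=
        ⟨(CharApp.inertia C (θ : C → ℂ)).relIndex T, (Subgroup.relIndex_mul_relIndex _ _ _ hCT hIT).symm⟩
      have h3 : p ∣ C.relIndex T := dvd_trans hdvd h2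
      have h5 := congrArg (fun k : ℕ => k.factorization p) h1
      simp only [Nat.factorization_mul (left_ne_zero_of_mul (h1 ▸ Subgroup.index_ne_zero_of_finite))
        (Subgroup.index_ne_zero_of_finite (H := T)), Finsupp.add_apply] at h5
      have := (hp.out.dvd_iff_one_le_factorization
        (left_ne_zero_of_mul (h1 ▸ Subgroup.index_ne_zero_of_finite))).mp h3
      omega
    · obtain ⟨η, hη, hηl⟩ := hsurj l
      obtain ⟨η', hη', hηl'⟩ := hsurj l'
      obtain ⟨χ, hχ⟩ := BlocksNormal.exists_over C η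
      obtain ⟨χ', hχ'⟩ := BlocksNormal.exists_over C η'
      have e1 := honeη η hη l hηl hl χ hχ
      have e2 := honeη η' hη' l' hηl' hl' χ' hχ'
      obtain ⟨g, hg, hge⟩ := hlink η hη η' hη' χ₃ (e1 ▸ hχ) (e2 ▸ hχ')
      refine ⟨((⟨g, hg⟩ : CharApp.inertia C (θ : C → ℂ)) : ((CharApp.inertia C (θ : C → ℂ)) ⧸ C.subgroupOf (CharApp.inertia C (θ : C → ℂ)))), ?_⟩
      rw [hφmk]
      have h := hactScales g η l hηl
      rw [hge] at h
      exact h.unique hηl'
    · obtain ⟨s, rfl⟩ := QuotientGroup.mk_surjective x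
      obtain ⟨t, rfl⟩ := QuotientGroup.mk_surjective y
      exact isConj_of_two _ (inInertia C θ) (inInertia_invariant C θ) hψne hψall
        (fun h => hx ((QuotientGroup.eq_one_iff s).mpr h)) (fun h => hy ((QuotientGroup.eq_one_iff t).mpr h))
        hcx hcy
    · obtain ⟨e₁, e₂, he₁, he₂, hd₁, hd₂, hsum, hall⟩ :=
        arith_of_two _ (inInertia C θ) (inInertia_invariant C θ) hψne hψ₁ hψ₂ hψall
      refine ⟨e₁, e₂, he₁, he₂, hd₁, hd₂, hsum, fun y hy hcy => ?_⟩
      obtain ⟨t, rfl⟩ := QuotientGroup.mk_surjective y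
      exact hall t (fun h => hy ((QuotientGroup.eq_one_iff t).mpr h)) hcy
  rw [← hVcard, hcfg.card_eq_three]

end Cfsg.Agent.BlockThree
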